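import Mathlib
import Cfsg.Agent.Lib.HJ.Frame

/-!
Definitions for the proof that five pariahs are not sections of the Monster.
-/

set_option autoImplicit false

namespace CfsgLib.Pariah

open Subgroup CfsgLib.HJ

/-- a surjection none of whose restrictions to a proper subgroup is surjective -/
structure Cov {A S : Type*} [Group A] [Group S] (σ : A →* S) : Prop where
  surj : Function.Surjective σ
  min : ∀ H : Subgroup A, H.map σ = ⊤ → H = ⊤

variable {G G' : Type*} [Group G] [Group G']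

/-- generators and relations of `2^{1+4}_-` -/
structure JQ (z : G) (q : Fin 5 → G) : Prop where
  zz : z * z = 1
  z1 : z ≠ 1
  qz : ∀ i, q i * z = z * q i
  sq : ∀ i, q i * q i = 1
  anti : ∀ i j, i ≠ j → q i * q j = z * (q j * q i)
  prod : q 0 * q 1 * q 2 * q 3 * q 4 = 1

/-- generators and relations of `2^{1+4}_- : A5` -/
structure JR (z : G) (q : Fin 5 → G) (u n y f : G) : Prop extends JQ z q where
  uz : u * z = z * u
  nz : n * z = z * n
  yz : y * z = z * y
  uq : ∀ i, u * q i * u⁻¹ = q (sU i)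
  nq : ∀ i, n * q i * n⁻¹ = q (sN i)
  yq : ∀ i, y * q i * y⁻¹ = q (sY i)
  uu : u * u = 1
  nn : n * n = 1
  y3 : y * y * y = 1
  yu : y * u * (y * u) * (y * u) = 1
  un : u * n * (u * n) * (u * n) = 1
  yn : y * n * (y * n) = 1
  fm : f ∈ closure {u, n, y}
  f5 : f ^ 5 = 1
  fq : ∀ i, f * q i * f⁻¹ = q (i + 1)

/-- the element of order three permuting the four-group `⟨z, q 4⟩` -/
structure JT (z : G) (q : Fin 5 → G) (u r : G) : Prop where
  rz : r * z * r⁻¹ = z * q 4
  re : r * q 4 * r⁻¹ = z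
  rb : r * (q 2 * q 3) * r⁻¹ = u * q 1 * q 3
  rc : r⁻¹ * (q 2 * q 3) * r = u * q 0 * q 3

variable {z u n y f r : G} {q : Fin 5 → G}

theorem JQ.map (h : JQ z q) (φ : G →* G') (hφ : Function.Injective φ) : JQ (φ z) (fun i => φ (q i)) where
  zz := by rw [← map_mul, h.zz, map_one]
  z1 := fun e => h.z1 (hφ (e.trans (map_one φ).symm))
  qz := fun i => by simpa using congrArg φ (h.qz i)
  sq := fun i => by simpa using congrArg φ (h.sq i)
  anti := fun i j e => by simpa using congrArg φ (h.anti i j e)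
  prod := by simpa using congrArg φ h.prod

theorem JQ.of_map (φ : G →* G') (hφ : Function.Injective φ) (h : JQ (φ z) (fun i => φ (q i))) : JQ z q where
  zz := hφ (by simpa using h.zz)
  z1 := fun e => h.z1 (by rw [e, map_one])
  qz := fun i => hφ (by simpa using h.qz i)
  sq := fun i => hφ (by simpa using h.sq i)
  anti := fun i j e => hφ (by simpa using h.anti i j e)
  prod := hφ (by simpa using h.prod)

theorem JR.map (h : JR z q u n y f) (φ : G →* G') (hφ : Function.Injective φ) :
    JR (φ z) (fun i => φ (q i)) (φ u) (φ n) (φ y) (φ f) where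
  toJQ := h.toJQ.map φ hφ
  uz := by simpa using congrArg φ h.uz
  nz := by simpa using congrArg φ h.nz
  yz := by simpa using congrArg φ h.yz
  uq := fun i => by simpa using congrArg φ (h.uq i)
  nq := fun i => by simpa using congrArg φ (h.nq i)
  yq := fun i => by simpa using congrArg φ (h.yq i)
  uu := by simpa using congrArg φ h.uu
  nn := by simpa using congrArg φ h.nn
  y3 := by simpa using congrArg φ h.y3
  yu := by simpa using congrArg φ h.yu
  un := by simpa using congrArg φ h.un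
  yn := by simpa using congrArg φ h.yn
  fm := by simpa [MonoidHom.map_closure, Set.image_insert_eq] using mem_map_of_mem φ h.fm
  f5 := by rw [← map_pow, h.f5, map_one]
  fq := fun i => by simpa using congrArg φ (h.fq i)

theorem JR.of_map (φ : G →* G') (hφ : Function.Injective φ)
    (h : JR (φ z) (fun i => φ (q i)) (φ u) (φ n) (φ y) (φ f)) : JR z q u n y f where
  toJQ := h.toJQ.of_map φ hφ
  uz := hφ (by simpa using h.uz)
  nz := hφ (by simpa using h.nz)
  yz := hφ (by simpa using h.yz)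
  uq := fun i => hφ (by simpa using h.uq i)
  nq := fun i => hφ (by simpa using h.nq i)
  yq := fun i => hφ (by simpa using h.yq i)
  uu := hφ (by simpa using h.uu)
  nn := hφ (by simpa using h.nn)
  y3 := hφ (by simpa using h.y3)
  yu := hφ (by simpa using h.yu)
  un := hφ (by simpa using h.un)
  yn := hφ (by simpa using h.yn)
  fm := (mem_map_iff_mem hφ).1 (by simpa [MonoidHom.map_closure, Set.image_insert_eq] using h.fm)
  f5 := hφ (by simpa using h.f5)
  fq := fun i => hφ (by simpa using h.fq i)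

theorem JT.map (h : JT z q u r) (φ : G →* G') : JT (φ z) (fun i => φ (q i)) (φ u) (φ r) where
  rz := by simpa using congrArg φ h.rz
  re := by simpa using congrArg φ h.re
  rb := by simpa using congrArg φ h.rb
  rc := by simpa using congrArg φ h.rc

theorem JR.fz (h : JR z q u n y f) : f * z = z * f :=
  mem_centralizer_singleton_iff.1 ((closure_le (centralizer {z})).2 (by
    rintro x (rfl | rfl | rfl)
    exacts [mem_centralizer_singleton_iff.2 h.uz, mem_centralizer_singleton_iff.2 h.nz,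
      mem_centralizer_singleton_iff.2 h.yz]) h.fm)

/-- the configuration in the O'Nan group -/
structure OD (t t' x a b y₁ y₂ g g₁ g₂ k₁ k₂ k₃ : G) : Prop where
  tt : t * t = 1
  big : (t * (g * t * g⁻¹)) ^ 60 ≠ 1
  tc : t' * t = t * t'
  c1 : g₁ * t * g₁⁻¹ = t'
  c2 : g₂ * t * g₂⁻¹ = t' * t
  xt : x * t = t * x
  x7 : x ^ 7 = 1
  x1 : x ≠ 1
  a7 : a ^ 7 = 1
  b7 : b ^ 7 = 1
  ax : a * x = x * a
  bx : b * x = x * b
  ab : a * b * a⁻¹ * b⁻¹ = x
  y1t : y₁ * t = t * y₁
  y2t : y₂ * t = t * y₂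
  y13 : y₁ ^ 3 = 1
  y12 : y₁ * y₂ = y₂ * y₁
  ind : ∀ i < 3, y₂ ≠ y₁ ^ i
  yx : y₁ * x * y₁⁻¹ = x ^ 2
  k1t : k₁ * t = t * k₁
  k2t : k₂ * t = t * k₂
  k3t : k₃ * t = t * k₃
  ky1 : k₁ * y₁ * k₁⁻¹ = y₂
  ky2 : k₂ * y₁ * k₂⁻¹ = y₁ * y₂
  ky3 : k₃ * y₁ * k₃⁻¹ = y₁ * y₂⁻¹

/-- the configuration in the Rudvalis group -/
structure RD (v w x g : G) : Prop where
  vv : v * v = 1
  ww : w * w = 1
  vw : v * w = w * v
  w1 : w ≠ 1
  ne : v ≠ w
  big : (v * (g * v * g⁻¹)) ^ 60 ≠ 1
  x13 : x ^ 13 = 1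
  x1 : x ≠ 1
  xv : x * v = v * x
  xw : x * w = w * x

end CfsgLib.Pariah
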