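import Mathlib
import Cfsg.Agent.Lib.Pariah.Defs

/-!
Normal forms in `2^{1+4}_-`.
-/

set_option autoImplicit false

namespace CfsgLib.Pariah

variable {G : Type*} [Group G] {z : G} {q : Fin 5 → G}

/-- powers with exponents modulo two -/
def pw (g : G) (a : ZMod 2) : G := g ^ a.val

theorem z2c (a : ZMod 2) : a = 0 ∨ a = 1 := by revert a; decide

@[simp] theorem pw_zero (g : G) : pw g 0 = 1 := pow_zero g

@[simp] theorem pw_one (g : G) : pw g 1 = g := pow_one g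

theorem pw_add {g : G} (h : g * g = 1) (a b : ZMod 2) : pw g a * pw g b = pw g (a + b) := by
  rcases z2c a with rfl | rfl <;> rcases z2c b with rfl | rfl <;> simp [h, show (1 + 1 : ZMod 2) = 0 from rfl]

theorem pw_comm {g x : G} (h : x * g = g * x) (a : ZMod 2) : x * pw g a = pw g a * x :=
  ((show Commute x g from h).pow_right _).eq

/-- the word of a vector -/
def JW (q : Fin 5 → G) (x : Fin 5 → ZMod 2) : G :=
  pw (q 0) (x 0) * (pw (q 1) (x 1) * (pw (q 2) (x 2) * (pw (q 3) (x 3) * pw (q 4) (x 4))))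

/-- the cocycle -/
def jβ (x y : Fin 5 → ZMod 2) : ZMod 2 :=
  x 1 * y 0 + x 2 * (y 0 + y 1) + x 3 * (y 0 + y 1 + y 2) + x 4 * (y 0 + y 1 + y 2 + y 3)

namespace JQ

theorem W_z (h : JQ z q) (x : Fin 5 → ZMod 2) : JW q x * z = z * JW q x := by
  have := fun i a => (pw_comm (h.qz i).symm a).symm
  simp only [JW, mul_assoc, this]
  simp only [← mul_assoc, this]

theorem W_mul (h : JQ z q) (x y : Fin 5 → ZMod 2) : JW q x * JW q y = pw z (jβ x y) * JW q (x + y) := by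
  have h1 : ∀ i j, j < i → ∀ a b w, pw (q i) a * (pw (q j) b * w) = pw z (a * b) * (pw (q j) b * (pw (q i) a * w)) :=
    fun i j l a b w => by
      rcases z2c a with rfl | rfl <;> rcases z2c b with rfl | rfl <;> simp [← mul_assoc, h.anti i j l.ne']
  have h2 : ∀ i a b w, pw (q i) a * (pw z b * w) = pw z b * (pw (q i) a * w) := fun i a b w => by
    rw [← mul_assoc, ← mul_assoc, pw_comm (pw_comm (h.qz i).symm a).symm]
  have h3 : ∀ i a b w, pw (q i) a * (pw (q i) b * w) = pw (q i) (a + b) * w := fun i a b w => by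
    rw [← mul_assoc, pw_add (h.sq i)]
  have h4 : ∀ a b w, pw z a * (pw z b * w) = pw z (a + b) * w := fun a b w => by rw [← mul_assoc, pw_add h.zz]
  rw [← mul_one (JW q y), ← mul_one (JW q (x + y))]
  simp only [JW, mul_assoc, h1 1 0 (by decide), h1 2 0 (by decide), h1 3 0 (by decide), h1 4 0 (by decide),
    h1 2 1 (by decide), h1 3 1 (by decide), h1 4 1 (by decide), h1 3 2 (by decide), h1 4 2 (by decide),
    h1 4 3 (by decide), h2, h3, h4, Pi.add_apply]
  congr 2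
  rw [jβ]; ring

theorem W_zero : JW q 0 = 1 := by simp [JW]

theorem W_one (h : JQ z q) : JW q 1 = 1 := by simpa [JW, mul_assoc] using h.prod

theorem W_single (i : Fin 5) : JW q (Pi.single i 1) = q i := by fin_cases i <;> simp [JW]

theorem mul_eq (h : JQ z q) (a b : ZMod 2) (x y : Fin 5 → ZMod 2) :
    pw z a * JW q x * (pw z b * JW q y) = pw z (a + b + jβ x y) * JW q (x + y) := by
  rw [mul_assoc, ← mul_assoc (JW q x), pw_comm (h.W_z x), mul_assoc, h.W_mul, ← pw_add h.zz, ← pw_add h.zz]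
  simp only [mul_assoc]

/-- the group generated by the `q i` -/
def R (h : JQ z q) : Subgroup G where
  carrier := {g | ∃ a x, g = pw z a * JW q x}
  one_mem' := ⟨0, 0, by simp [W_zero]⟩
  mul_mem' := by
    rintro _ _ ⟨a, x, rfl⟩ ⟨b, y, rfl⟩
    exact ⟨_, _, h.mul_eq a b x y⟩
  inv_mem' := by
    rintro _ ⟨a, x, rfl⟩
    refine ⟨a + jβ x x, x, inv_eq_of_mul_eq_one_right ?_⟩
    rw [h.mul_eq, show x + x = 0 from funext fun i => CharTwo.add_self_eq_zero _, W_zero,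
      show a + (a + jβ x x) + jβ x x = 0 by generalize jβ x x = b; revert a b; decide]
    simp

theorem q_mem (h : JQ z q) (i : Fin 5) : q i ∈ h.R := ⟨0, Pi.single i 1, by simp [W_single]⟩

theorem z_mem (h : JQ z q) : z ∈ h.R := ⟨1, 0, by simp [W_zero]⟩

theorem sq_eq (h : JQ z q) (a : ZMod 2) (x : Fin 5 → ZMod 2) :
    pw z a * JW q x * (pw z a * JW q x) = pw z (jβ x x) := by
  rw [h.mul_eq, show x + x = 0 from funext fun i => CharTwo.add_self_eq_zero _, W_zero, CharTwo.add_self_eq_zero,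
    zero_add, mul_one]

theorem pw_cases (z : G) (a : ZMod 2) : pw z a = 1 ∨ pw z a = z := by rcases z2c a with rfl | rfl <;> simp

theorem sq_or (h : JQ z q) {g : G} (hg : g ∈ h.R) : g * g = 1 ∨ g * g = z := by
  obtain ⟨a, x, rfl⟩ := hg
  exact h.sq_eq a x ▸ pw_cases _ _

theorem triv (h : JQ z q) (a : ZMod 2) {x : Fin 5 → ZMod 2} (hx : x = 0 ∨ x = 1) :
    pw z a * JW q x = 1 ∨ pw z a * JW q x = z := by
  rcases hx with rfl | rfl <;> simpa [W_zero, h.W_one] using pw_cases z a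

theorem conj_or (h : JQ z q) {g k : G} (hg : g ∈ h.R) (hk : k ∈ h.R) : g * k * g⁻¹ = k ∨ g * k * g⁻¹ = k * z := by
  obtain ⟨a, x, rfl⟩ := hg
  obtain ⟨b, y, rfl⟩ := hk
  have e1 : pw z b * JW q y * z = pw z (1 + b) * JW q y := by
    rw [mul_assoc, h.W_z, ← mul_assoc, add_comm, ← pw_add h.zz, pw_one]
  simp only [mul_inv_eq_iff_eq_mul, e1, h.mul_eq, add_comm y]
  have : ∀ a b c d : ZMod 2, a + b + c = b + a + d ∨ a + b + c = 1 + b + a + d := by decide
  exact (this a b _ _).imp (fun e => by rw [e]) fun e => by rw [e]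

/-- there is no elementary abelian subgroup of order eight -/
theorem minus (h : JQ z q) {g k : G} (hg : g ∈ h.R) (hk : k ∈ h.R) (h1 : g * g = 1) (h2 : k * k = 1)
    (h3 : g * k * (g * k) = 1) : (g = 1 ∨ g = z) ∨ (k = 1 ∨ k = z) ∨ g * k = 1 ∨ g * k = z := by
  obtain ⟨a, x, rfl⟩ := hg
  obtain ⟨b, y, rfl⟩ := hk
  rw [h.mul_eq] at h3 ⊢
  rw [h.sq_eq] at h1 h2 h3
  have k0 : ∀ c, pw z c = 1 → c = 0 := fun c e => (z2c c).resolve_right fun e' => h.z1 (by simpa [e'] using e)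
  have : ∀ x y : Fin 5 → ZMod 2, jβ x x = 0 → jβ y y = 0 → jβ (x + y) (x + y) = 0 →
      (x = 0 ∨ x = 1) ∨ (y = 0 ∨ y = 1) ∨ x + y = 0 ∨ x + y = 1 := by decide +kernel
  exact (this x y (k0 _ h1) (k0 _ h2) (k0 _ h3)).imp (h.triv a) (Or.imp (h.triv b) (h.triv _))

theorem cases (h : JQ z q) (x : Fin 5 → ZMod 2) : (x = 0 ∨ x = 1) ∨ (∃ a i, JW q x = pw z a * q i) ∨
    ∃ a i j, i ≠ j ∧ JW q x = pw z a * (q i * q j) := by
  have : ∀ x : Fin 5 → ZMod 2, (x = 0 ∨ x = 1) ∨ (∃ i, ∃ u : Fin 5 → ZMod 2, (u = 0 ∨ u = 1) ∧ x = u + Pi.single i 1) ∨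
      ∃ i j, i ≠ j ∧ ∃ u : Fin 5 → ZMod 2, (u = 0 ∨ u = 1) ∧ x = u + (Pi.single i 1 + Pi.single j 1) := by decide +kernel
  have k1 : ∀ u y, u = 0 ∨ u = 1 → JW q (u + y) = pw z (jβ u y) * JW q y := fun u y hu => by
    have := h.W_mul u y
    rw [show JW q u = 1 by rcases hu with rfl | rfl; exacts [W_zero, h.W_one], one_mul] at this
    rw [this, ← mul_assoc, pw_add h.zz, CharTwo.add_self_eq_zero, pw_zero, one_mul]
  refine (this x).imp_right (Or.imp ?_ ?_)
  · rintro ⟨i, u, hu, rfl⟩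
    exact ⟨_, i, by rw [k1 u _ hu, W_single]⟩
  · rintro ⟨i, j, e, u, hu, rfl⟩
    refine ⟨jβ u (Pi.single i 1 + Pi.single j 1) + jβ (Pi.single i 1) (Pi.single j 1), i, j, e, ?_⟩
    rw [k1 u _ hu, ← W_single (q := q) i, ← W_single (q := q) j, h.W_mul, ← mul_assoc, pw_add h.zz, add_assoc,
      CharTwo.add_self_eq_zero, add_zero]

theorem isPGroup (h : JQ z q) : IsPGroup 2 h.R := fun g => ⟨2, Subtype.ext (by
  rw [Subgroup.coe_pow, show 2 ^ 2 = 2 * 2 from rfl, pow_mul, pow_two g.1, pow_two]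
  rcases h.sq_or g.2 with e | e <;> simp [e, h.zz])⟩

end JQ

end CfsgLib.Pariah
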