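import Mathlib
import Cfsg.Agent.Lib.Mon.MxA
import Cfsg.Agent.Lib.Pariah.Defs

/-!
Elements of `C` inducing sign changes, described by their action on the normal subgroup `2 ^ 13`.
-/

set_option autoImplicit false

namespace CfsgLib.Pariah

open Cfsg CfsgLib.Leech CfsgLib.Mon CfsgLib.Co1Rec Finset Matrix
open scoped Pointwise symmDiff

/-- `c = y_d x_e` modulo `2 ^ 13` -/
structure DG (c : C k0) (d e : Finset GolayPt) : Prop where
  cd : IsCW d
  ce : IsCW e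
  act : ∀ v : V24, v.1 = 0 → cact c v = v + (v.2 ⬝ᵥ kk k0 d) • w0 k0
  eps : ∀ v : V24, v.1 = 0 → cε c v = v.2 ⬝ᵥ kk k0 e

/-- octads and their complements -/
def Oc (d : Finset GolayPt) : Prop := d.card = 8 ∨ d.card = 16

variable {c c' k : C k0} {d e d' e' : Finset GolayPt}

theorem smul_w0_fst (a : ZMod 2) : (a • w0 k0).1 = 0 := by simp [std_k0.w0_fst]

theorem cact_smul (c : C k0) (a : ZMod 2) (v : V24) : cact c (a • v) = a • cact c v := ZMod.map_smul _ _ _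

theorem pc_form {σ : M24} (h : PC c σ) : ∃ x d hd, Mon.mk k0 x = c ∧ x.g = sgnAut d hd * permAut σ := by
  obtain ⟨y, rfl, h⟩ := h
  obtain ⟨d, hd, ρ, e⟩ := mem_monoGrp_of_forall y.g fun a => ⟨_, h a⟩
  obtain rfl := (e ▸ pp_mono d hd ρ).unique h
  exact ⟨y, d, hd, rfl, e⟩

theorem pc_w0 {σ : M24} (h : PC c σ) : cact c (w0 k0) = w0 k0 := by
  obtain ⟨x, d, hd, rfl, e⟩ := pc_form h
  exact mk_mem_Nx0.2 ⟨d, hd, σ, e⟩

theorem pc_fst {σ : M24} (h : PC c σ) {v : V24} (hv : v.1 = 0) : (cact c v).1 = 0 := by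
  obtain ⟨x, d, hd, rfl, e⟩ := pc_form h
  exact cact_mk x v ▸ std_k0.act_fst ⟨d, hd, σ, e⟩ hv

theorem pc_xv {σ : M24} (h : PC c σ) (hd : IsCW d) : (cact c (xv k0 d)).1 = kk k0 (σ • d) := by
  obtain ⟨x, f, hf, rfl, e⟩ := pc_form h
  have := (std_k0.act_sgn_xv hf (isCW_smul hd σ) hf (std_k0.xv_fst f)).1
  rw [cact_mk, e, k0.act_mul, act_perm_xv σ hd, ← std_k0.xv_fst, ← add_zero (xv k0 _).1, ← this, Prod.fst_add,
    add_comm, add_assoc, w_add_self, add_zero]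

theorem pc_dot {σ : M24} (h : PC c σ) (hd : IsCW d) {v : V24} (hv : v.1 = 0) :
    (cact c v).2 ⬝ᵥ kk k0 (σ • d) = v.2 ⬝ᵥ kk k0 d := by
  rw [← pc_xv h hd, ← om_of_fst (pc_fst h hv), om_cact, om_of_fst hv, std_k0.xv_fst]

theorem pc_add {σ : M24} (h : PC c σ) (u : V24) {v : V24} (hv : v.1 = 0) : cε c (u + v) = cε c u + cε c v := by
  simpa [bet_of_fst hv, bet_of_fst (pc_fst h hv)] using cε_add c u v

theorem pc_smul_w0 (c : C k0) (a : ZMod 2) : cε c (a • w0 k0) = a * cε c (w0 k0) := by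
  rcases z2_cases a with rfl | rfl <;> simp [cε_zero]

/-- the action of a sign change on `Z0` -/
theorem act_sgn0 (hd : IsCW d) {v : V24} (hv : v.1 = 0) :
    k0.act (sgnAut d hd) v = v + (v.2 ⬝ᵥ kk k0 d) • w0 k0 := by
  have h := std_k0
  have h2 : ∀ u, om (k0.act (sgnAut d hd) v + v) u = v.2 ⬝ᵥ (k0.act (sgnAut d hd) u + u).1 := fun u => by
    rw [← om_of_fst hv, om_add_left, om_add_left, ← k0.om_act (sgnAut d hd) _ u, ← k0.act_mul,
      sgnAut_mul_self, k0.act_one, om_comm u, om_comm v]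
  have h3 : (k0.act (sgnAut d hd) v + v).1 = 0 := by
    rw [Prod.fst_add, hv, h.act_fst (sgnAut_mem_monoGrp d hd) hv, add_zero]
  have h4 := h2 (lam k0 none)
  rw [Prod.fst_add, h.act_sgn_lam, h.lam_fst, add_right_comm, w_add_self, zero_add] at h4
  have h6 : k0.act (sgnAut d hd) v + v = om (k0.act (sgnAut d hd) v + v) (lam k0 none) • w0 k0 := by
    rcases h.eq_zero_or_w0 h3 (fun f hf => by
      rw [← h.xv_fst, ← om_of_fst h3, om_comm, h2, (h.act_sgn_xv hd hf hf (h.xv_fst f)).1,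
        dotProduct_zero]) with h5 | h5 <;> rw [h5]
    · simp
    · rw [om_comm, om_lam_w0, one_smul]
  rw [← h4, ← h6, add_comm _ v, ← add_assoc, ww_add_self, zero_add]

theorem pc_of_act (h : ∀ v : V24, v.1 = 0 → cact c v = v ∨ cact c v = v + w0 k0) : PC c 1 := by
  have h0 : c ∈ Nx0 k0 := (h _ std_k0.w0_fst).resolve_right fun e =>
    w0_ne_zero (cact_injective c (e.trans ((ww_add_self _).trans (map_zero _).symm)))
  obtain ⟨σ, hσ⟩ := exists_pc h0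
  have key : ∀ a b : GolayPt, a ≠ b → a = σ • a ∨ a = σ • b := fun a b h1 => by
    have h4 : ({a, b} : Finset GolayPt).card = 2 := card_pair h1
    obtain ⟨n, hn⟩ := hσ.cact_ls (δ := {a, b}) (by omega)
    have h5 : ∃ m : ℕ, ls k0 (Dl σ {a, b}) = m • w0 k0 := by
      rcases h _ (std_k0.ls_fst (δ := {a, b}) (by omega)) with e | e <;> rw [e] at hn
      · exact ⟨n, eq_of_add_eq_zero' (hn.symm.trans (ww_add_self _))⟩
      · refine ⟨n + 1, eq_of_add_eq_zero' ?_⟩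
        rw [succ_nsmul, ← add_assoc, ← hn, add_right_comm _ (w0 k0), ww_add_self, zero_add, ww_add_self]
    obtain ⟨m, hm⟩ := h5
    have h6 : a ∉ Dl σ {a, b} := by
      rw [(isCW_of_ls hm).eq_empty ((card_sd_le _ _).trans_lt (by rw [card_smul_finset]; omega))]
      exact notMem_empty a
    simpa [Dl, mem_symmDiff, smul_finset_insert, or_iff_not_imp_left] using h6
  have : σ = 1 := Subtype.ext (Equiv.ext fun a => by
    obtain ⟨b, c, h1, h2, h3⟩ : ∃ b c : GolayPt, a ≠ b ∧ a ≠ c ∧ b ≠ c := by revert a; decide +kernel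
    rcases key a b h1 with e | e
    · exact e.symm
    exact ((key a c h2).resolve_right fun e' => h3 ((smul_left_cancel_iff σ).1 (e.symm.trans e'))).symm)
  exact this ▸ hσ

theorem DG.pc (h : DG c d e) : PC c 1 :=
  pc_of_act fun v hv => by
    rw [h.act v hv]
    rcases z2_cases (v.2 ⬝ᵥ kk k0 d) with e | e <;> simp [e]

theorem exists_dg (h : PC c 1) (h0 : cε c (w0 k0) = 0) : ∃ d e, DG c d e := by
  obtain ⟨d, hd, -, h1, -⟩ := std_k0.exists_sgn h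
  obtain ⟨u, hu⟩ := exists_om_eq (AddMonoidHom.mk' (fun v : V24 => cε c (0, v.2)) fun a b => by
    rw [← pc_add h _ (v := (0, b.2)) rfl]; simp)
  have h2 : ∀ v : V24, v.1 = 0 → cε c v = v.2 ⬝ᵥ u.1 := fun v hv => by
    rw [← om_of_fst hv, om_comm, ← hu, show v = (0, v.2) from Prod.ext hv rfl]; rfl
  obtain ⟨e, he, h3⟩ := std_k0.exists_kk (k := u.1) ((h2 _ std_k0.w0_fst).symm.trans h0)
  exact ⟨d, e, hd, he, h1, h3 ▸ h2⟩

theorem exists_dg' (h : PC c 1) (hQ : c ∉ Q k0) (h2 : c * c = 1 ∨ c * c = z k0) : ∃ d e, DG c d e := by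
  obtain ⟨d, hd, h0, h1, -⟩ := std_k0.exists_sgn h
  obtain ⟨b, hb⟩ : ∃ b : W12, b ⬝ᵥ kk k0 d = 1 := by
    by_contra! hn
    exact hQ (h0 (eq_of_dot fun b => by simpa using (z2_cases _).resolve_right (hn b)))
  have h3 : cε (c * c) (0, b) = 0 := by rcases h2 with e | e <;> simp [e, cε_one, cε_z]
  rw [cε_mul, h1 _ rfl, hb, one_smul, pc_add h _ std_k0.w0_fst, ← add_assoc, z2_add_self, zero_add] at h3
  exact exists_dg h h3

theorem DG.eps_w0 (h : DG c d e) : cε c (w0 k0) = 0 := (h.eps _ std_k0.w0_fst).trans (std_k0.w0_dot_kk e)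

theorem DG.mul (h : DG c d e) (h' : DG c' d' e') : DG (c * c') (d ∆ d') (e ∆ e') :=
  ⟨h.cd.symmDiff h'.cd, h.ce.symmDiff h'.ce, fun v hv => by
    rw [cact_mul, h'.act v hv, map_add, h.act v hv, cact_smul, pc_w0 h.pc, std_k0.kk_symmDiff h.cd h'.cd,
      dotProduct_add, add_smul, add_assoc], fun v hv => by
    rw [cε_mul, h'.eps v hv, h'.act v hv, pc_add h.pc _ (smul_w0_fst _), pc_smul_w0, h.eps_w0, h.eps v hv,
      std_k0.kk_symmDiff h.ce h'.ce, dotProduct_add, mul_zero, add_zero, add_comm]⟩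

theorem DG.uniq (h : DG c d e) (h' : DG c d' e') : kk k0 d = kk k0 d' ∧ kk k0 e = kk k0 e' :=
  ⟨eq_of_dot fun b => smul_w0_inj (add_left_cancel ((h.act (0, b) rfl).symm.trans (h'.act (0, b) rfl))),
    eq_of_dot fun b => (h.eps (0, b) rfl).symm.trans (h'.eps (0, b) rfl)⟩

theorem DG.congr (h : DG c d e) (hd : IsCW d') (he : IsCW e') (h1 : kk k0 d' = kk k0 d) (h2 : kk k0 e' = kk k0 e) :
    DG c d' e' :=
  ⟨hd, he, h1 ▸ h.act, h2 ▸ h.eps⟩

theorem DG.mul_z (h : DG c d e) : DG (c * z k0) d e :=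
  ⟨h.cd, h.ce, fun v hv => by rw [cact_mul, cact_z, h.act v hv],
    fun v hv => by rw [cε_mul, cact_z, cε_z, zero_add, h.eps v hv]⟩

theorem DG.conj_aux (h : DG c d e) {σ : M24} (hk : PC k σ) {v : V24} (hv : v.1 = 0) :
    cact (k * c * k⁻¹) v = v + (v.2 ⬝ᵥ kk k0 (σ • d)) • w0 k0 ∧
      cε (k * c * k⁻¹) v = v.2 ⬝ᵥ kk k0 (σ • e) + v.2 ⬝ᵥ kk k0 (σ • d) * cε k (w0 k0) := by
  have hu := pc_fst hk.inv hv
  have h1 := pc_dot hk h.cd hu
  have h2 := pc_dot hk h.ce hu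
  have h3 := cε_mul k k⁻¹ v
  rw [cact_cact_inv] at h1 h2
  rw [mul_inv_cancel, cε_one] at h3
  constructor
  · rw [cact_mul, cact_mul, h.act _ hu, map_add, cact_cact_inv, cact_smul, pc_w0 hk, h1]
  · rw [cε_mul, cε_mul, h.act _ hu, pc_add hk _ (smul_w0_fst _), pc_smul_w0, h.eps _ hu, h1, h2]
    linear_combination -h3

theorem DG.conj (h : DG c d e) {σ : M24} (hk : PC k σ) (h0 : cε k (w0 k0) = 0) :
    DG (k * c * k⁻¹) (σ • d) (σ • e) := by
  refine ⟨isCW_smul h.cd σ, isCW_smul h.ce σ, fun v hv => (h.conj_aux hk hv).1, fun v hv => ?_⟩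
  rw [(h.conj_aux hk hv).2, h0, mul_zero, add_zero]

theorem DG.conj' (h : DG c d e) {σ : M24} (hk : PC k σ) (h0 : cε k (w0 k0) = 1) :
    DG (k * c * k⁻¹) (σ • d) (σ • (d ∆ e)) := by
  refine ⟨isCW_smul h.cd σ, isCW_smul (h.cd.symmDiff h.ce) σ, fun v hv => (h.conj_aux hk hv).1, fun v hv => ?_⟩
  rw [(h.conj_aux hk hv).2, h0, mul_one, smul_sd, std_k0.kk_symmDiff (isCW_smul h.cd σ) (isCW_smul h.ce σ),
    dotProduct_add, add_comm]

theorem DG.co1 (h : DG c d e) : toCo1 k0 c = QuotientGroup.mk (sgnAut d h.cd) := by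
  obtain ⟨x, rfl, hx⟩ := h.pc
  obtain ⟨f, hf, h1⟩ := mem_signs_of_pp hx
  have h2 : kk k0 d = kk k0 f := eq_of_dot fun b => smul_w0_inj (κ := k0) (add_left_cancel (a := ((0, b) : V24)) (by
    rw [← h.act (0, b) rfl, cact_mk, h1, act_sgn0 hf rfl]))
  rw [toCo1_mk, h1]
  rcases std_k0.eq_or_of_kk h.cd hf h2 with rfl | rfl
  exacts [rfl, mk_compl h.cd]

theorem DG.mem_Q (h : DG c d e) : c ∈ Q k0 ↔ kk k0 d = 0 := by
  refine ⟨fun hc => eq_of_dot fun b => smul_w0_inj (κ := k0) ?_, fun h0 => ?_⟩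
  · simpa [mem_Q_iff_cact.1 hc] using h.act (0, b) rfl
  · rw [← toCo1_eq_one, h.co1]
    rcases std_k0.kk_eq_zero h.cd h0 with rfl | rfl
    · rw [sgnAut_empty]; rfl
    · rw [← mk_compl]; simp only [compl_univ, sgnAut_empty]; rfl

theorem DG.cact_eq (h : DG c d e) (v : V24) : cact c v = k0.act (sgnAut d h.cd) v := by
  obtain ⟨a, rfl⟩ := k0.surj v
  rw [cact_φ h.co1.symm, k0.act_φ]

theorem DG.exists_Y (h : DG c d e) : ∃ y s v, IsY 0 d y ∧ v.1 = kk k0 e ∧ c = Mon.mk k0 y * q k0 s v := by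
  obtain ⟨x, x1, x2⟩ := exists_mk_of_toCo1 h.co1.symm
  obtain ⟨y, hy⟩ := std_k0.exists_Y 0 h.cd
  obtain ⟨s, v, hv⟩ := hy.exists_q (x1.trans hy.g_eq.symm)
  rw [x2] at hv
  refine ⟨y, s, v, hy, eq_of_dot fun b => ?_, hv⟩
  rw [← h.eps (0, b) rfl, hv, cε_mul, cε_q, cact_q, cε_mk, hy.ε_Z rfl, add_zero, om_of_fst rfl]

theorem DG.oc (h : DG c d e) (hz : IsConj zz (toCo1 k0 c)) : Oc d := by
  have := (conj_zz (h.co1 ▸ hz)).1
  rw [tr_sgn] at this
  unfold Oc; omega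

theorem DG.dod (h : DG c d e) (hz : IsConj cc (toCo1 k0 c)) : d.card = 12 := by
  have := (conj_cc (h.co1 ▸ hz)).1
  rw [tr_sgn] at this
  omega

theorem DG.sq (h : DG c d e) (h2 : ∃ s, ∃ n : ℕ, c * c = q k0 s (n • w0 k0)) : IsCW (d ∩ e) := by
  obtain ⟨s, n, h2⟩ := h2
  refine isCW_of_even_inter fun u hu => ?_
  obtain ⟨a1, a2⟩ := std_k0.act_sgn_xv h.cd hu h.ce (std_k0.xv_fst e)
  have h3 := cε_mul c c (xv k0 u)
  rw [h2, cε_q, om_nsmul, om_comm, om_xv_w0, mul_zero, h.cact_eq, ← add_zero (k0.act _ _), ← ww_add_self (xv k0 u),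
    ← add_assoc, add_comm _ (xv k0 u), pc_add h.pc _ a1, ← add_assoc, z2_add_self, zero_add, h.eps _ a1,
    ← std_k0.xv_fst, ← om_of_fst a1, a2, inter_right_comm] at h3
  exact Nat.mod_eq_zero_of_dvd ((ZMod.natCast_eq_zero_iff _ 2).1 h3.symm)

theorem DG.sq_ne (h : DG c d e) (h0 : kk k0 e = 0 ∨ kk k0 e = kk k0 d) : c * c ≠ z k0 := fun h2 => by
  obtain ⟨y, s, v, hy, h1, rfl⟩ := h.exists_Y
  obtain ⟨k, x, ⟨s', u, rfl⟩, h4⟩ := hy.good std_k0 s (h1 ▸ h0)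
  have h5 := mul_mem h4 h4
  rw [Prod.mk_mul_mk, conj_mul, h2, z_comm, mul_inv_cancel_right, q_mul_self] at h5
  exact w0_ne_zero (q_inj (Mult.gam_uniq std_k0 std_k0.gam_z h5)).2

/-- three classes of words with intersection in the code form a trio -/
theorem trio_of (hd : IsCW d) (he : IsCW e) (h : IsCW (d ∩ e)) (h1 : kk k0 d ≠ 0) (h2 : kk k0 e ≠ 0)
    (h3 : kk k0 e ≠ kk k0 d) : ∃ a b c : Finset GolayPt, IsCW a ∧ IsCW b ∧ IsCW c ∧ a.card = 8 ∧ b.card = 8 ∧ c.card = 8 ∧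
      kk k0 a = kk k0 d ∧ kk k0 b = kk k0 e ∧ kk k0 c = kk k0 d + kk k0 e ∧ Disjoint a b ∧ Disjoint a c ∧
      Disjoint b c ∧ a ∪ b ∪ c = univ := by
  have k := std_k0
  have aux : ∀ a b, IsCW a → IsCW b → kk k0 a = kk k0 d → kk k0 b = kk k0 e → a ∩ b = ∅ →
      ∃ a b c : Finset GolayPt, IsCW a ∧ IsCW b ∧ IsCW c ∧ a.card = 8 ∧ b.card = 8 ∧ c.card = 8 ∧
      kk k0 a = kk k0 d ∧ kk k0 b = kk k0 e ∧ kk k0 c = kk k0 d + kk k0 e ∧ Disjoint a b ∧ Disjoint a c ∧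
      Disjoint b c ∧ a ∪ b ∪ c = univ := fun a b ha hb e1 e2 e3 => by
    have e4 : Disjoint a b := disjoint_iff_inter_eq_empty.2 e3
    have hc := (ha.symmDiff hb).compl
    have e5 : kk k0 (a ∆ b)ᶜ = kk k0 d + kk k0 e := by
      rw [k.kk_compl2 (ha.symmDiff hb), k.kk_symmDiff ha hb, e1, e2]
    have e6 : ∀ c, IsCW c → kk k0 c ≠ 0 → 8 ≤ c.card := fun c hc h =>
      not_lt.1 fun l => h (hc.eq_empty l ▸ kk_empty)
    have c1 := e6 a ha (e1 ▸ h1)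
    have c2 := e6 b hb (e2 ▸ h2)
    have c3 := e6 _ hc (e5 ▸ fun l => h3 (by rw [← add_zero (kk k0 d), ← l, ← add_assoc, w_add_self, zero_add]))
    rw [e4.symmDiff_eq_sup, sup_eq_union] at hc e5 c3
    have c4 := card_compl (a ∪ b)
    rw [card_union_of_disjoint e4, card_pt] at c4
    exact ⟨a, b, _, ha, hb, hc, by omega, by omega, by omega, e1, e2, e5, e4,
      disjoint_compl_right.mono_left subset_union_left, disjoint_compl_right.mono_left subset_union_right,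
      union_compl _⟩
  have p1 : IsCW (d ∩ eᶜ) := by
    convert hd.symmDiff h using 1; ext; simp [mem_symmDiff]; tauto
  have p2 : IsCW (dᶜ ∩ e) := by
    convert he.symmDiff h using 1; ext; simp [mem_symmDiff]; tauto
  have p3 : IsCW (dᶜ ∩ eᶜ) := by
    convert hd.compl.symmDiff p2 using 1; ext; simp [mem_symmDiff]; tauto
  have s1 := card_inter_add_card_sdiff d e
  have s2 := card_inter_add_card_sdiff dᶜ e
  have s3 := card_compl d
  have s4 := card_le_univ d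
  rw [sdiff_eq, inf_eq_inter] at s1 s2
  rw [card_pt] at s3 s4
  by_cases l0 : (d ∩ e).card < 8
  · exact aux _ _ hd he rfl rfl (h.eq_empty l0)
  by_cases l1 : (d ∩ eᶜ).card < 8
  · exact aux _ _ hd he.compl rfl (k.kk_compl2 he) (p1.eq_empty l1)
  by_cases l2 : (dᶜ ∩ e).card < 8
  · exact aux _ _ hd.compl he (k.kk_compl2 hd) rfl (p2.eq_empty l2)
  exact aux _ _ hd.compl he.compl (k.kk_compl2 hd) (k.kk_compl2 he) (p3.eq_empty (by omega))

theorem tr_one : Co1Rec.tr 1 = 192 := by rw [← sgnAut_empty, tr_sgn]; simp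

theorem zz_ne_one {t : Spor.Co1} (h : IsConj zz t) : t ≠ 1 := by
  rintro rfl
  simpa [tr_one] using (conj_zz (g := 1) h).1

theorem cc_ne_one {t : Spor.Co1} (h : IsConj cc t) : t ≠ 1 := by
  rintro rfl
  simpa [tr_one] using (conj_cc (g := 1) h).1

theorem conj_sq (c k : C k0) : k⁻¹ * c * k * (k⁻¹ * c * k) = k⁻¹ * (c * c) * k := by group

theorem co1_conj (c k : C k0) : IsConj (toCo1 k0 c) (toCo1 k0 (k⁻¹ * c * k)) :=
  (toCo1 k0).map_isConj (isConj_iff.2 ⟨k⁻¹, by rw [inv_inv]⟩)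

theorem exists_pc_of (hd : IsCW d) (h : IsConj (toCo1 k0 c) (sgnAut d hd)) : ∃ k, PC (k⁻¹ * c * k) 1 := by
  obtain ⟨k, hk⟩ := isConj_iff.1 h
  obtain ⟨k, rfl⟩ := toCo1_surjective (κ := k0) k
  rw [← map_inv, ← map_mul, ← map_mul] at hk
  obtain ⟨x, x1, x2⟩ := exists_mk_of_toCo1 hk.symm
  exact ⟨k⁻¹, x, by rw [x2, inv_inv], x1 ▸ pp_sgn d hd⟩

theorem exists_dg_of (hd : IsCW d) (h : IsConj (toCo1 k0 c) (sgnAut d hd)) (h1 : toCo1 k0 c ≠ 1)
    (h2 : c * c = 1 ∨ c * c = z k0) : ∃ k d e, DG (k⁻¹ * c * k) d e := by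
  obtain ⟨k, hk⟩ := exists_pc_of hd h
  refine ⟨k, exists_dg' hk (fun e => h1 (isConj_one_left.1 (toCo1_eq_one.2 e ▸ co1_conj c k))) ?_⟩
  rw [conj_sq]
  exact h2.imp (fun e => by simp [e]) fun e => by rw [e, z_comm, inv_mul_cancel_right]

theorem cc_sq (h : IsConj cc (toCo1 k0 c)) : c * c ≠ z k0 := fun h2 => by
  have hd : IsCW (Golay.ofMask 340831) := isCW_ofMask (by decide +kernel)
  obtain ⟨k, d, e, h3⟩ := exists_dg_of hd (h.symm.trans (conj_dod hd (by decide +kernel)))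
    (cc_ne_one h) (Or.inr h2)
  have h4 : k⁻¹ * c * k * (k⁻¹ * c * k) = z k0 := by rw [conj_sq, h2, z_comm, inv_mul_cancel_right]
  have h5 := h3.dod (h.trans (co1_conj c k))
  refine h3.sq_ne ?_ h4
  by_contra! hn
  obtain ⟨a, -, -, ha, -, -, h6, -, -, h7, -⟩ := trio_of h3.cd h3.ce (h3.sq ⟨1, 0, by rw [h4, zero_nsmul, q_one_zero]⟩)
    (std_k0.kk_ne_zero h3.cd (Or.inr h5)) hn.1 hn.2
  rcases std_k0.eq_or_of_kk ha h3.cd h7 with rfl | rfl
  · omega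
  · rw [card_compl, card_pt] at h5; omega

/-- an element over the class `zz` with square in `⟨z⟩` is conjugate to `y_d q` -/
theorem exists_dg_of_zz (h : IsConj zz (toCo1 k0 c)) (h2 : c * c = 1 ∨ c * c = z k0) :
    ∃ k d e, d.card = 8 ∧ DG (k⁻¹ * c * k) d e := by
  obtain ⟨d, hd, h8⟩ := exists_oct
  obtain ⟨k, d, e, h3⟩ := exists_dg_of hd (h.symm.trans (conj_oct hd (Or.inl h8))) (zz_ne_one h) h2
  rcases h3.oc (h.trans (co1_conj c k)) with h4 | h4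
  · exact ⟨k, d, e, h4, h3⟩
  · exact ⟨k, dᶜ, e, by rw [card_compl, card_pt, h4], h3.congr h3.cd.compl h3.ce (std_k0.kk_compl2 h3.cd) rfl⟩

end CfsgLib.Pariah
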