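import Mathlib
import Cfsg.Agent.Lib.Mon.MxA

/-!
`2A`-pure subgroups and the rank of the centraliser of a `2A` involution.
-/

set_option autoImplicit false

namespace CfsgLib.Pariah

open Cfsg CfsgLib.Leech CfsgLib.Mon Subgroup

namespace Pu

open CfsgLib.Co1Rec Finset

theorem cw_off {d e : Finset GolayPt} (hd : IsCW d) (he : IsCW e) (h8 : d.card = 8) :
    (e \ d).card = 0 ∨ 4 ≤ (e \ d).card := by
  have h1 := Golay.card_symmDiff_add e d
  have h2 := card_sdiff_add_card_inter e d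
  have h3 := card_le_card (inter_subset_right (s₁ := e) (s₂ := d))
  have h4 := he.card_eq
  have h5 := (he.symmDiff hd).card_eq
  omega

theorem neg_of_perp {d : Finset GolayPt} (hd : IsCW d) (h8 : d.card = 8) {u : leechLattice} (hu : sqNorm u.1 = 32)
    (h : ∀ w, k0.act (sgnAut d hd) w = w → om w (k0.φ u) = 0) : sgnAut d hd • u = -u := by
  obtain ⟨w, hw⟩ := exists_eq_add_of_perp (sgnAut_mul_self d hd) h
  refine (MType.mem_pm.1 ((act_φ_eq_iff (κ := k0) (by omega)).1 (by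
    rw [← hw, map_add, act_act (sgnAut_mul_self d hd), add_comm]))).resolve_left fun e => ?_
  obtain ⟨a, rfl⟩ := k0.surj w
  rw [k0.act_φ, ← k0.φ_neg a, ← map_add, eq_comm, k0.φ_eq_iff] at hw
  obtain ⟨μ, hμ⟩ := hw
  let m : GolayPt → ℤ := fun i => if i ∈ d then 0 else μ.1 i
  have h1 : ∀ i, u.1 i = 2 * m i := fun i => by
    have k1 := congrFun (congrArg Subtype.val e) i
    have k2 := congrFun (congrArg Subtype.val hμ) i
    simp only [AddSubgroup.coe_sub, AddSubgroup.coe_add, AddSubgroup.coe_neg, AddSubgroup.coe_zsmul, Pi.sub_apply,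
      Pi.add_apply, Pi.neg_apply, Pi.smul_apply, sgnAut_smul_apply, smul_eq_mul, m] at k1 k2 ⊢
    split_ifs at k1 k2 ⊢ <;> omega
  have h2 : sqNorm m = 8 := by
    simp only [sqNorm, h1, mul_pow, ← mul_sum] at hu ⊢
    omega
  rcases even_or_odd μ.2 with h3 | h3
  · have h4 : IsEvenVec m := fun i => by simp only [m]; split_ifs; exacts [rfl, h3 i]
    have h5 := four_mul_card_cw_le h4
    have h6 : cw m = cw μ.1 \ d := by
      ext i; simp only [mem_cw, mem_sdiff, m]; split_ifs <;> simp [*]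
    have h7 := cw_off hd (isCW_cw μ.2) h8
    rw [← h6] at h7
    have h9 : (16 : ℤ) ∣ sqNorm m := dvd_sum fun i _ => by
      have k1 : i ∉ cw m := card_eq_zero.1 (show (cw m).card = 0 by omega) ▸ notMem_empty i
      have k2 := h4 i
      rw [mem_cw] at k1
      exact pow_dvd_pow_of_dvd (show (4 : ℤ) ∣ m i by omega) 2
    omega
  · have h4 : ∑ i, (if i ∈ dᶜ then (1 : ℤ) else 0) ≤ sqNorm m := sum_le_sum fun i _ => by
      have := h3 i
      by_cases l : i ∈ d <;> simp only [m, mem_compl, l, not_true, not_false_iff, if_true, if_false]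
      · rfl
      · exact (one_le_sq_iff_one_le_abs _).2 (Int.one_le_abs (by omega))
    rw [sum_boole, filter_mem_eq_inter, univ_inter, card_compl, card_pt, h8] at h4
    omega

theorem fix_of_tr {d : Finset GolayPt} (hd : IsCW d) (h8 : d.card = 8) {c : Co0} (h1 : Co1Rec.tr c = 64)
    (h2 : Co1Rec.tr (c * sgnAut d hd) = -64) {u : leechLattice} (hu : sgnAut d hd • u = -u) : c • u = u := by
  have k1 : ∀ a, (c • e8 a).1 a ≤ 8 := fun a => by
    have := sq_le_sqNorm (c • e8 a).1 a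
    rw [sqNorm_smul, sqNorm_e8] at this
    nlinarith
  have k2 : Co1Rec.tr c - Co1Rec.tr (c * sgnAut d hd) = 2 * ∑ a ∈ d, (c • e8 a).1 a := by
    rw [Co1Rec.tr, Co1Rec.tr, ← sum_sub_distrib, mul_sum, ← Fintype.sum_ite_mem d]
    refine sum_congr rfl fun a _ => ?_
    rw [mul_smul, sgnAut_smul_e8]
    split_ifs <;> simp [two_mul]
  have k3 := (sum_eq_sum_iff_of_le (s := d) (g := fun _ => (8 : ℤ)) fun a _ => k1 a).1
    (by rw [sum_const, h8]; simp only [nsmul_eq_mul]; omega)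
  have k4 : ∀ a ∈ d, c • e8 a = e8 a := fun a ha => Subtype.ext (sub_eq_zero.1 (sqNorm_eq_zero (by
    rw [sqNorm_sub, sqNorm_smul, sqNorm_e8, dotInt_e8, k3 a ha]; rfl)))
  refine Subtype.ext (funext fun i => ?_)
  have k5 := eight_mul_smul_apply c u i
  have k6 := eight_mul_smul_apply 1 u i
  rw [sum_congr rfl (g := fun a => u.1 a * ((1 : Co0) • e8 a).1 i) fun a _ => by
    by_cases l : a ∈ d
    · rw [k4 a l, one_smul]
    · have := congrFun (congrArg Subtype.val hu) a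
      simp only [sgnAut_smul_apply, l, if_false, AddSubgroup.coe_neg, Pi.neg_apply] at this
      simp [show u.1 a = 0 by omega], ← k6, one_smul] at k5
  omega

variable {G : Type*} [Group G] {π : C k0 →* G} {τ : G}

theorem sq_of {a : G} (ha : IsConj (π tK) a) : a * a = 1 := by
  obtain ⟨k, rfl⟩ := isConj_iff.1 ha
  rw [conj_mul, MS.t_mul_self, mul_one, mul_inv_cancel]

theorem neg_lift (m : MS π τ) {b : C k0} (hQ : b ∉ Q k0) (h1 : IsConj (π tK) (π b)) (h2 : IsConj (π tK) (π (b * tK))) :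
    ∃ (g : Co0) (d : Finset GolayPt) (hd : IsCW d), d.card = 8 ∧ toCo1 k0 b = (g * sgnAut d hd * g⁻¹ : Co0) ∧
      (g * sgnAut d hd * g⁻¹) • dlL none (some 0) = -dlL none (some 0) := by
  obtain ⟨d, hd, h8⟩ := exists_oct
  obtain ⟨k, hk⟩ := (m.comm_z_cases hd h8 0 h1 (m.comm_iff.2 (z_comm b))).resolve_left fun ⟨k, hk⟩ =>
    hQ (m.mem_Q_of_eq hk)
  obtain ⟨y, hy⟩ := std_k0.exists_Y 0 hd
  have e0 := m.am.conj (gam_Y hy)
  rw [mk_xq, xv_octad h8] at e0
  rw [e0, ← map_inv, ← map_mul, ← map_mul] at hk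
  obtain rfl := m.inj hk
  obtain ⟨x, rfl⟩ := mk_surjective k
  have e1 := mk_conj_q x⁻¹ 0 (k0.φ (dlL none (some 0)))
  rw [← tK_eq, k0.act_φ, map_inv, inv_inv] at e1
  have e2 := neg_of_perp hd h8 (u := x⁻¹.g • dlL none (some 0)) (by rw [sqNorm_smul, sqNorm_tK]) fun w hw =>
    m.perp_of_isConj hy h8 (h2.trans (π.map_isConj (isConj_iff.2 ⟨(Mon.mk k0 x)⁻¹, by rw [← e1]; group⟩)))
      (hy.g_eq ▸ hw)
  refine ⟨x.g, d, hd, h8, by simp [toCo1_mk, hy.g_eq], ?_⟩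
  rw [mul_smul, mul_smul, ← Chat.inv_g, e2, smul_neg, Chat.inv_g, smul_inv_smul]

theorem not_pure (m : MS π τ) {b c : C k0} (hb : b ∉ Q k0) (hc : c ∉ Q k0) (hd : c * b ∉ Q k0)
    (b1 : IsConj (π tK) (π b)) (b2 : IsConj (π tK) (π (b * tK))) (c1 : IsConj (π tK) (π c))
    (c2 : IsConj (π tK) (π (c * tK))) (d1 : IsConj (π tK) (π (c * b))) (d2 : IsConj (π tK) (π (c * b * tK))) : False := by
  obtain ⟨g, d, hd1, h8, e1, f1⟩ := neg_lift m hb b1 b2
  obtain ⟨g', d', hd2, h8', e2, f2⟩ := neg_lift m hc c1 c2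
  obtain ⟨g'', d'', hd3, h8'', e3, f3⟩ := neg_lift m hd d1 d2
  have t2 : Co1Rec.tr (g' * sgnAut d' hd2 * g'⁻¹) = 64 := by rw [tr_conj, tr_sgn, h8']; rfl
  have t3 : Co1Rec.tr (g'' * sgnAut d'' hd3 * g''⁻¹) = 64 := by rw [tr_conj, tr_sgn, h8'']; rfl
  generalize g' * sgnAut d' hd2 * g'⁻¹ = x at *
  generalize g'' * sgnAut d'' hd3 * g''⁻¹ = y at *
  have n0 : ∀ k : Co0, k • dlL none (some 0) ≠ -(k • dlL none (some 0)) := fun k => ne_neg_self fun l => by
    have := sqNorm_smul k (dlL none (some 0))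
    rw [l, sqNorm_tK] at this
    simp [sqNorm] at this
  rw [map_mul, e1, e2, ← QuotientGroup.mk_mul] at e3
  rcases MType.mk_eq_mk_co1.1 e3 with rfl | rfl
  · rw [mul_smul, f1, smul_neg, f2, neg_inj] at f3
    exact n0 1 (by simpa using f3.symm)
  · rw [tr_neg] at t3
    have := fix_of_tr hd1 h8 (c := g⁻¹ * x * g) (by simpa using (tr_conj g⁻¹ x).trans t2)
      (by rw [← tr_conj g]; simpa [mul_assoc] using neg_eq_iff_eq_neg.1 t3)
      (u := g⁻¹ • dlL none (some 0)) (by rw [← smul_neg, ← f1]; simp [mul_smul])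
    rw [mul_smul, mul_smul, smul_inv_smul, f2, smul_neg] at this
    exact n0 _ this.symm

theorem exists_phi (m : MS π τ) {t : G} (ht : IsConj (π tK) t) {X : Subgroup G} (hX : IsPGroup 2 X)
    (h1 : X ≤ centralizer {t}) : ∃ φ : C k0 →* G, Function.Injective φ ∧ φ tK = t ∧ (∀ c, IsConj (φ c) (π c)) ∧
      X.comap φ ≤ Nx0 k0 ⊓ CK ∧ Nat.card (X.comap φ) = Nat.card X := by
  have := m.finite
  obtain ⟨k, rfl⟩ := isConj_iff.1 ht
  have hle : (Nx0 k0 ⊓ CK).map π ≤ KK π τ := by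
    rintro _ ⟨x, hx, rfl⟩
    exact pi_mem_KK π τ hx.2
  have h2 := (((Nx0 k0 ⊓ CK).map π).subgroupOf (KK π τ)).card_mul_index
  have h3 := ((Nx0 k0).subgroupOf CK).card_mul_index
  rw [← OrbCov.stabilizer_w0_sub, MulAction.index_stabilizer, OrbCov.ncard_orbit_CK, card_CK, OrbCov.stabilizer_w0_sub,
    ← inf_subgroupOf_right, Nat.card_congr (subgroupOfEquivOfLe inf_le_right).toEquiv] at h3
  rw [Nat.card_congr (subgroupOfEquivOfLe hle).toEquiv, card_map_of_injective m.inj, m.card_K,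
    Nat.eq_of_mul_eq_mul_right (by norm_num) (h3.trans (show _ = 15239231160975360 * 46575 by norm_num))] at h2
  obtain ⟨g, hg⟩ := exists_conj_le (H := ((Nx0 k0 ⊓ CK).map π).subgroupOf (KK π τ))
    (hX.comap_of_injective ((MulAut.conj k).toMonoidHom.comp (KK π τ).subtype)
      ((MulAut.conj k).injective.comp Subtype.val_injective)) (by omega)
  let φ := (MulAut.conj (k * g)).toMonoidHom.comp π
  have hφ : Function.Injective φ := (MulAut.conj _).injective.comp m.inj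
  have h4 : X ≤ (Nx0 k0 ⊓ CK).map φ := fun a ha => by
    obtain ⟨c, h5, h6⟩ := hg ⟨k⁻¹ * a * k, m.cent_t ▸ mem_centralizer_singleton_iff.2 (by
      have := mem_centralizer_singleton_iff.1 (h1 ha)
      apply (MulAut.conj k).injective
      simpa [mul_assoc] using this)⟩ (by simpa [mem_comap, mul_assoc] using ha)
    exact ⟨c, h5, by simp [φ, h6, mul_assoc]⟩
  refine ⟨φ, hφ, ?_, fun c => (isConj_iff.2 ⟨k * g, rfl⟩).symm, fun c hc => (mem_map_iff_mem hφ).1 (h4 hc), ?_⟩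
  · simp [φ, mul_assoc, mem_centralizer_singleton_iff.1 (m.am.KK_le g.2)]
  · rw [Core.card_comap_of_le_range φ (h4.trans (map_le_range _ _)), (MonoidHom.ker_eq_bot_iff φ).2 hφ, card_bot,
      mul_one]

end Pu

variable {G : Type*} [Group G] {π : C k0 →* G} {τ : G}

theorem card_pure (m : MS π τ) {E : Subgroup G} (hc : ∀ a ∈ E, ∀ b ∈ E, a * b = b * a)
    (h : ∀ a ∈ E, a ≠ 1 → IsConj (π tK) a) : Nat.card E ≤ 4 := by
  have := m.finite
  by_contra hn
  have h2 : ∀ a ∈ E, a * a = 1 := fun a ha => by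
    by_cases l : a = 1
    exacts [by simp [l], Pu.sq_of (h a ha l)]
  obtain ⟨a, ha, a1, -⟩ := exists_ne_two (H := E) (by omega) 1
  obtain ⟨φ, h3, rfl, h4, -, h5⟩ := Pu.exists_phi m (h a ha a1) (X := E)
    (fun x => ⟨1, Subtype.ext (by simpa [pow_two] using h2 x x.2)⟩) fun x hx =>
      mem_centralizer_singleton_iff.2 (hc x hx a ha)
  rw [← h5] at hn
  set Y := E.comap φ
  have y1 : ∀ x ∈ Y, x ≠ 1 → IsConj (π tK) (π x) := fun x hx l =>
    (h _ hx fun e => l (h3 (e.trans (map_one φ).symm))).trans (h4 x)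
  have y2 : ∀ x ∈ Y, ∀ y, x * y = 1 → y = x := fun x hx y l => by
    rw [← mul_one y, ← h3 (show φ (x * x) = φ 1 by simpa using h2 _ hx), ← mul_assoc, mul_eq_one_comm.1 l, one_mul]
  have y3 : ∀ x ∈ Y, x * tK = tK * x := fun x hx => h3 (by simpa using hc _ hx _ ha)
  have ht : tK ∈ Y := ha
  have t1 : tK ≠ 1 := fun e => a1 (by rw [e, map_one])
  have key : ∀ b ∈ Y, b ≠ 1 → b ≠ tK → ∃ c ∈ Y, c ≠ 1 ∧ c * tK ≠ 1 ∧ c * b ≠ 1 ∧ c * b * tK ≠ 1 := fun b hb b1 b2 => by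
    by_contra! l
    refine hn (card_le_four_of (a := 1) (b := tK⁻¹) (c := b⁻¹) (d := (b * tK)⁻¹) fun c hc => ?_)
    simp only [← mul_eq_one_iff_eq_inv, ← mul_assoc]
    have := l c hc
    tauto
  by_cases hQ : ∃ b ∈ Y, b ∈ Q k0 ∧ b ≠ 1 ∧ b ≠ tK
  · obtain ⟨b, hb, b0, b1, b2⟩ := hQ
    obtain ⟨c, hc, c1, c2, c3, c4⟩ := key b hb b1 b2
    exact m.not_pure_C b0 tK_mem_Q (y1 c hc c1) (y1 b hb b1) (IsConj.refl _)
      (y1 _ (mul_mem hb ht) fun l => b2 (y2 b hb _ l).symm) (y1 _ (mul_mem hc hb) c3) (y1 _ (mul_mem hc ht) c2)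
      (y1 _ (mul_mem (mul_mem hc hb) ht) c4)
  obtain ⟨b, hb, b1, b2⟩ := exists_ne_two (H := Y) (by omega) tK
  obtain ⟨c, hc, c1, c2, c3, c4⟩ := key b hb b1 b2
  have nq : ∀ x ∈ Y, x ≠ 1 → x * tK ≠ 1 → x ∉ Q k0 := fun x hx l1 l2 l =>
    hQ ⟨x, hx, l, l1, fun e => l2 (e ▸ tK_mul_self)⟩
  have b3 : b * tK ≠ 1 := fun l => b2 (y2 b hb _ l).symm
  exact Pu.not_pure m (nq b hb b1 b3) (nq c hc c1 c2) (nq _ (mul_mem hc hb) c3 c4) (y1 b hb b1)
    (y1 _ (mul_mem hb ht) b3) (y1 c hc c1) (y1 _ (mul_mem hc ht) c2) (y1 _ (mul_mem hc hb) c3)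
    (y1 _ (mul_mem (mul_mem hc hb) ht) c4)

theorem card_mod_t (m : MS π τ) {t : G} (ht : IsConj (π tK) t) {X : Subgroup G} (h1 : X ≤ centralizer {t})
    (h2 : ∀ x ∈ X, x * x = 1 ∨ x * x = t) (h3 : ∀ x ∈ X, ∀ y ∈ X, x * y = y * x ∨ x * y = y * x * t) :
    Nat.card X ≤ 2 ^ 15 := by
  obtain ⟨φ, k1, rfl, -, k2, k3⟩ := Pu.exists_phi m ht (X := X) (fun x => ⟨2, Subtype.ext (by
    rw [Subgroup.coe_pow, show 2 ^ 2 = 2 * 2 from rfl, pow_mul, pow_two x.1, pow_two]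
    rcases h2 x x.2 with e | e <;> simp [e, Pu.sq_of ht])⟩) h1
  rw [← k3]
  refine std_k0.card_le (T := {none, some 0}) (Or.inr (by decide)) (fun x hx =>
    ⟨(k2 hx).1, mem_centralizer_singleton_iff.2 (tK_eq_ls ▸ mem_CK.1 (k2 hx).2)⟩) (fun x hx => ?_) fun x hx y hy => ?_
  · rw [← tK_eq_ls]
    rcases h2 _ hx with e | e
    · exact k1 (show φ (x * x) = φ 1 by simpa using e) ▸ one_mem _
    · exact k1 (show φ (x * x) = φ tK by simpa using e) ▸ mem_zpowers _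
  · rw [← tK_eq_ls, commutatorElement_def]
    rcases h3 _ hx _ hy with e | e
    · simp [k1 (show φ (x * y) = φ (y * x) by simpa using e)]
    · rw [k1 (show φ (x * y) = φ (y * x * tK) by simpa using e), mem_CK.1 (mul_mem (k2 hy).2 (k2 hx).2)]
      simp [mul_assoc]

theorem card_elem (m : MS π τ) {E : Subgroup G} (h : ∀ a ∈ E, a * a = 1) : Nat.card E ≤ 2 ^ 15 := by
  have := m.finite
  have hE : IsElementaryAbelian 2 E := PLocal.elemAb_iff.2 ⟨fun a ha b hb => by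
    have := h _ (mul_mem ha hb)
    rw [← inv_eq_of_mul_eq_one_right this, mul_inv_rev, inv_eq_of_mul_eq_one_right (h a ha),
      inv_eq_of_mul_eq_one_right (h b hb)], fun a ha => by rw [pow_two, h a ha]⟩
  exact m.mm.rank.2 E hE.1 hE.2

end CfsgLib.Pariah
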