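import Mathlib
import Cfsg.Agent.Lib.Pariah.Defs
import Cfsg.Agent.Lib.Pariah.Pure
import Cfsg.Agent.Lib.Tech.Invol

/-!
Reduction to minimal covers.
-/

set_option autoImplicit false

namespace CfsgLib.Pariah

open Cfsg CfsgLib.Mon Subgroup

universe u

variable {A S : Type*} [Group A] [Group S] [Finite A] {σ : A →* S}

theorem exists_cov {G : Type*} [Group G] [Finite G] (A : Subgroup G) (B : Subgroup A) [B.Normal] (e : A ⧸ B ≃* S) :
    ∃ (A' : Subgroup G) (σ : A' →* S), Cov σ := by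
  let φ : A →* S := e.toMonoidHom.comp (QuotientGroup.mk' B)
  obtain ⟨H, hH, hmin⟩ := (wellFounded_lt (α := Subgroup A)).has_min {H | H.map φ = ⊤}
    ⟨⊤, map_top_of_surjective φ (e.surjective.comp (QuotientGroup.mk'_surjective B))⟩
  let i := (H.equivMapOfInjective A.subtype A.subtype_injective).symm
  refine ⟨H.map A.subtype, (φ.comp H.subtype).comp i.toMonoidHom, fun s => ?_, fun K hK => ?_⟩
  · obtain ⟨x, hx, rfl⟩ := hH.ge (mem_top s)
    exact ⟨i.symm ⟨x, hx⟩, by simp⟩
  · rw [← map_map, ← map_map] at hK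
    have h1 := eq_of_le_of_not_lt (map_subtype_le _) (hmin _ hK)
    refine map_injective (f := i.toMonoidHom) i.injective (map_injective H.subtype_injective ?_)
    rw [h1, map_top_of_surjective _ i.surjective, ← MonoidHom.range_eq_map, range_subtype]

theorem Cov.perfect (c : Cov σ) (h : commutator S = ⊤) : commutator A = ⊤ := by
  refine c.min _ ?_
  rw [commutator_def, map_commutator, map_top_of_surjective σ c.surj, ← commutator_def, h]

/-- a normal subgroup not inside the kernel is everything -/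
theorem Cov.eq_top [IsSimpleGroup S] (c : Cov σ) {N : Subgroup A} (hN : N.Normal) {x : A} (hx : x ∈ N)
    (h : σ x ≠ 1) : N = ⊤ := by
  refine c.min _ ((hN.map σ c.surj).eq_bot_or_eq_top.resolve_left fun e => h ?_)
  exact mem_bot.1 (e ▸ mem_map_of_mem σ hx)

namespace Red

open CfsgLib.Tech

theorem exists_syl (c : Cov σ) (p : ℕ) [Fact p.Prime] : ∃ P : Subgroup A, P.Normal ∧ IsSylowIn p P σ.ker := by
  obtain ⟨P, hP⟩ := exists_isSylowIn p σ.ker
  refine ⟨P, normalizer_eq_top_iff.1 (c.min _ (eq_top_iff.2 fun s _ => ?_)), hP⟩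
  obtain ⟨g, rfl⟩ := c.surj s
  obtain ⟨n, hn, h⟩ := hP.frattini (g := g) (le_normalizer_of_normal (mem_top g))
  exact ⟨_, h, by rw [map_mul, hn, one_mul]⟩

theorem mem_syl {p : ℕ} [Fact p.Prime] {P K : Subgroup A} (hn : P.Normal) (hP : IsSylowIn p P K) {b : A}
    (hb : b ∈ K) {k : ℕ} (h : b ^ p ^ k = 1) : b ∈ P :=
  hP.le_of_normalizes (isPGroup_zpowers_of_pow h) (zpowers_le.2 hb) le_normalizer_of_normal (mem_zpowers b)

/-- a normal `p`-subgroup on which no element of order `r` can act is central -/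
theorem central [IsSimpleGroup S] (c : Cov σ) {p r : ℕ} (hp : p.Prime) (hr : r.Prime) (hS : r ∣ Nat.card S)
    {P : Subgroup A} (hn : P.Normal) (hP : IsPGroup p P)
    (h : ∀ i, 0 < i → p ^ i ∣ Nat.card P → p ≠ r ∧ ¬ p ^ i ≡ 1 [MOD r]) : P ≤ center A := by
  have := Fact.mk hp
  have := Fact.mk hr
  have : Finite S := Finite.of_surjective σ c.surj
  obtain ⟨s, hs⟩ := exists_prime_orderOf_dvd_card' r hS
  obtain ⟨y, rfl⟩ := c.surj s
  obtain ⟨e, m, hm, ho⟩ := Nat.exists_eq_pow_mul_and_not_dvd (orderOf_pos y).ne' r hr.ne_one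
  have x1 : σ (y ^ m) ≠ 1 := fun e => hm (hs ▸ orderOf_dvd_of_pow_eq_one (by rwa [map_pow] at e))
  have xr : IsPGroup r (zpowers (y ^ m)) :=
    isPGroup_zpowers_of_pow (k := e) (by rw [← pow_mul, mul_comm, ← ho, pow_orderOf_eq_one])
  generalize y ^ m = x at x1 xr
  let _ : MulAction (zpowers x) P := MulAction.compHom P ((MulAut.conjNormal (H := P)).comp (zpowers x).subtype)
  have h1 := xr.card_modEq_card_fixedPoints P
  have h2 : Nat.card (MulAction.fixedPoints (zpowers x) P) = Nat.card ((centralizer {x}).subgroupOf P) :=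
    Nat.card_congr (Equiv.subtypeEquivRight fun w => by
      rw [mem_subgroupOf, mem_centralizer_singleton_iff]
      refine ⟨fun h => ?_, fun h g => Subtype.ext ?_⟩
      · exact (mul_inv_eq_iff_eq_mul.1 (congrArg Subtype.val (h ⟨x, mem_zpowers x⟩))).symm
      · exact mul_inv_eq_iff_eq_mul.2 (mem_centralizer_singleton_iff.1
          ((zpowers_le (H := centralizer {(w : A)})).2 (mem_centralizer_singleton_iff.2 h.symm) g.2)))
  obtain ⟨a, ha⟩ := IsPGroup.iff_card.1 (hP.to_subgroup ((centralizer {x}).subgroupOf P))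
  obtain ⟨i, hi⟩ := hP.index ((centralizer {x}).subgroupOf P)
  have h3 := ((centralizer {x}).subgroupOf P).card_mul_index
  have h4 : i = 0 := by
    by_contra h0
    obtain ⟨h5, h6⟩ := h i (Nat.pos_of_ne_zero h0) (hi ▸ index_dvd_card _)
    rw [h2, ← h3, ha, hi, mul_comm] at h1
    exact h6 (Nat.ModEq.cancel_right_of_coprime (c := p ^ a)
      (Nat.Coprime.pow_right _ ((Nat.coprime_primes hr hp).2 h5.symm)) (by rwa [one_mul]))
  rw [h4, pow_zero, index_eq_one, subgroupOf_eq_top] at hi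
  have h5 := c.eq_top (N := centralizer (P : Set A)) inferInstance (x := x)
    (fun w hw => mem_centralizer_singleton_iff.1 (hi hw)) x1
  exact fun w hw => mem_center_iff.2 fun g => (h5.ge (mem_top g) w hw).symm

theorem card_mul (c : Cov σ) : Nat.card σ.ker * Nat.card S = Nat.card A := by
  rw [← σ.ker.card_mul_index, index_ker, MonoidHom.range_eq_top.2 c.surj, card_top]

theorem num {Q : ℕ} {f : ℕ → ℕ} (h1 : Q ∣ Nat.factorial 71 ^ 46)
    (h2 : ∀ p < 72, (∀ m < p, m ∣ p → m = 1) → 2 < p → ¬ p ^ 21 ∣ Q ∧ ∀ i < 21, 0 < i → p ^ i ∣ Q →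
      p ≠ f p ∧ ¬ p ^ i ≡ 1 [MOD f p]) {p i : ℕ} (hp : p.Prime) (h : p ≠ 2) (hi : 0 < i) (hd : p ^ i ∣ Q) :
    p ≠ f p ∧ ¬ p ^ i ≡ 1 [MOD f p] := by
  have h3 := hp.dvd_factorial.1 (hp.dvd_of_dvd_pow (((dvd_pow_self p hi.ne').trans hd).trans h1))
  obtain ⟨h4, h5⟩ := h2 p (by omega) (Nat.prime_def_lt.1 hp).2 (by have := hp.two_le; omega)
  exact h5 i (by_contra fun h6 => h4 ((pow_dvd_pow p (by omega)).trans hd)) hi hd

end Red

/-- the kernel is nilpotent -/
theorem Cov.exists_two (c : Cov σ) : ∃ N : Subgroup A, N.Normal ∧ IsPGroup 2 N ∧ N ≤ σ.ker ∧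
    ∀ b ∈ σ.ker, ∃ n ∈ N, ∃ d ∈ σ.ker, Odd (orderOf d) ∧ b = n * d := by
  have := Fact.mk Nat.prime_two
  obtain ⟨N, hN, hS⟩ := Red.exists_syl c 2
  refine ⟨N, hN, hS.pgroup, hS.le, fun b hb => ?_⟩
  obtain ⟨e, m, hm, ho⟩ := Nat.exists_eq_pow_mul_and_not_dvd (orderOf_pos b).ne' 2 (by norm_num)
  have hc : Nat.Coprime m (2 ^ e) := Nat.Coprime.pow_right _ ((Nat.prime_two.coprime_iff_not_dvd.2 hm).symm)
  refine ⟨(b ^ m) ^ Nat.gcdA m (2 ^ e), zpow_mem (Red.mem_syl hN hS (pow_mem hb m) (k := e)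
    (by rw [← pow_mul, mul_comm, ← ho, pow_orderOf_eq_one])) _, (b ^ 2 ^ e) ^ Nat.gcdB m (2 ^ e),
    zpow_mem (pow_mem hb _) _, ?_, ?_⟩
  · refine (Nat.odd_iff.2 (by omega) : Odd m).of_dvd_nat (orderOf_dvd_of_pow_eq_one ?_)
    rw [← zpow_natCast, ← zpow_mul, mul_comm, zpow_mul, zpow_natCast, ← pow_mul, ← ho, pow_orderOf_eq_one, one_zpow]
  · rw [← zpow_natCast, ← zpow_natCast, ← zpow_mul, ← zpow_mul, ← zpow_add, ← Nat.gcd_eq_gcd_ab, hc.gcd_eq_one]
    simp

theorem card_ker_dvd {A S : Type u} [Group A] [Group S] [Finite A] {σ : A →* S} (c : Cov σ)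
    (hp : commutator S = ⊤) (hz : σ.ker ≤ center A) {n : ℕ} (h : HasCyclicSchurMultiplier S n) :
    Nat.card σ.ker ∣ n := by
  obtain ⟨π, hπ⟩ := h.2 A σ ⟨c.surj, hz, c.perfect hp ▸ le_top⟩
  simpa only [Nat.card_congr Multiplicative.toAdd, Nat.card_zmod] using card_dvd_of_surjective π hπ

variable {G : Type*} [Group G] {π : C k0 →* G} {τ : G}

set_option synthInstance.maxSize 1024 in
theorem odd_central (m : MS π τ) {A : Subgroup G} {σ : A →* S} (c : Cov σ) [IsSimpleGroup S]
    (hS : Nat.card S = 50232960 ∨ Nat.card S = 460815505920 ∨ Nat.card S = 145926144000) {b : A} (hb : b ∈ σ.ker)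
    (h : Odd (orderOf b)) : b ∈ center A := by
  have := m.finite
  by_contra hne
  obtain ⟨p, hp, hd⟩ := Nat.exists_prime_and_dvd (n := orderOf (QuotientGroup.mk' (center A) b))
    fun e => hne ((QuotientGroup.eq_one_iff b).1 (orderOf_eq_one_iff.1 e))
  have := Fact.mk hp
  have p2 : p ≠ 2 := fun e => (Nat.not_even_iff_odd.2 h) (even_iff_two_dvd.2 (e ▸ hd.trans (orderOf_map_dvd _ _)))
  obtain ⟨e, k, hk, ho⟩ := Nat.exists_eq_pow_mul_and_not_dvd (orderOf_pos b).ne' p hp.ne_one
  obtain ⟨P, hn, hP⟩ := Red.exists_syl c p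
  have h1 := Red.mem_syl hn hP (pow_mem hb k) (k := e) (by rw [← pow_mul, mul_comm, ← ho, pow_orderOf_eq_one])
  have h2 : Nat.card P * Nat.card S ∣ 808017424794512875886459904961710757005754368000000000 := by
    rw [← m.card_G]
    exact ((mul_dvd_mul_right (card_dvd_of_le hP.le) _).trans (Red.card_mul c).dvd).trans (card_subgroup_dvd_card A)
  have h3 : P ≤ center A := by
    rcases hS with hS | hS | hS <;> rw [hS] at h2
    · refine Red.central c hp (r := if p = 7 then 17 else 19) (by split_ifs <;> norm_num)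
        (by rw [hS]; split_ifs <;> norm_num) hn hP.pgroup fun i hi hd => Red.num
        (Q := 808017424794512875886459904961710757005754368000000000 / 50232960)
        (f := fun p => if p = 7 then 17 else 19) (by decide +kernel) (by decide +kernel) hp p2 hi
        (hd.trans ((Nat.dvd_div_iff_mul_dvd (by norm_num)).2 (by rwa [mul_comm])))
    · refine Red.central c hp (r := if p = 7 then 31 else 19) (by split_ifs <;> norm_num)
        (by rw [hS]; split_ifs <;> norm_num) hn hP.pgroup fun i hi hd => Red.num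
        (Q := 808017424794512875886459904961710757005754368000000000 / 460815505920)
        (f := fun p => if p = 7 then 31 else 19) (by decide +kernel) (by decide +kernel) hp p2 hi
        (hd.trans ((Nat.dvd_div_iff_mul_dvd (by norm_num)).2 (by rwa [mul_comm])))
    · refine Red.central c hp (r := if p = 59 then 13 else 29) (by split_ifs <;> norm_num)
        (by rw [hS]; split_ifs <;> norm_num) hn hP.pgroup fun i hi hd => Red.num
        (Q := 808017424794512875886459904961710757005754368000000000 / 145926144000)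
        (f := fun p => if p = 59 then 13 else 29) (by decide +kernel) (by decide +kernel) hp p2 hi
        (hd.trans ((Nat.dvd_div_iff_mul_dvd (by norm_num)).2 (by rwa [mul_comm])))
  exact hk (hd.trans (orderOf_dvd_of_pow_eq_one (by
    rw [← map_pow]; exact (QuotientGroup.eq_one_iff _).2 (h3 h1))))

theorem odd_or (m : MS π τ) {A : Subgroup G} {σ : A →* S} (c : Cov σ) [IsSimpleGroup S]
    (hS : Nat.card S = 50232960 ∨ Nat.card S = 460815505920 ∨ Nat.card S = 145926144000) :
    Odd (Nat.card σ.ker) ∨ (Nat.card S = 50232960 ∧ ∃ t, IsConj (π tK) t ∧ A ≤ centralizer {t}) := by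
  have := m.finite
  have := Fact.mk Nat.prime_two
  obtain ⟨N, hn, hN⟩ := Red.exists_syl c 2
  by_cases h0 : N = ⊥
  · left
    have := hN.not_dvd
    rwa [h0, relIndex_bot_left, ← even_iff_two_dvd, Nat.not_even_iff_odd] at this
  right
  obtain ⟨t, tN, to2, tc⟩ := Tech.exists_mem_center_of_normalized hN.pgroup le_rfl le_normalizer h0
  let E : Subgroup A :=
    { carrier := {a | a ∈ N ∧ a * a = 1 ∧ ∀ n ∈ N, n * a = a * n}
      one_mem' := ⟨one_mem _, mul_one _, by simp⟩
      mul_mem' := fun {a b} ha hb => ⟨mul_mem ha.1 hb.1, by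
        rw [mul_assoc, ← mul_assoc b, ha.2.2 b hb.1, mul_assoc, hb.2.1, mul_one, ha.2.1], fun n hn => by
        rw [← mul_assoc, ha.2.2 n hn, mul_assoc, hb.2.2 n hn, mul_assoc]⟩
      inv_mem' := fun {a} ha => by rwa [inv_eq_of_mul_eq_one_right ha.2.1] }
  have En : E.Normal := ⟨fun a ha g => ⟨hn.conj_mem a ha.1 g, by rw [conj_mul, ha.2.1]; simp, fun n h => by
    calc _ = g * (g⁻¹ * n * g * a) * g⁻¹ := by group
      _ = _ := by rw [ha.2.2 _ (hn.conj_mem' n h g)]; group⟩⟩
  have cE : Nat.card E ≤ 2 ^ 15 := by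
    rw [← card_map_of_injective A.subtype_injective]
    refine card_elem m ?_
    rintro _ ⟨a, ha, rfl⟩
    exact congrArg Subtype.val ha.2.1
  have key : ∀ r : ℕ, r.Prime → r ∣ Nat.card S → (∀ i < 16, 0 < i → 2 ≠ r ∧ ¬ 2 ^ i ≡ 1 [MOD r]) → E ≤ center A :=
    fun r hr h1 h2 => Red.central c Nat.prime_two hr h1 En (hN.pgroup.to_le fun a ha => ha.1) fun i hi hd =>
      h2 i (Nat.lt_succ_of_le ((Nat.pow_le_pow_iff_right one_lt_two).1 ((Nat.le_of_dvd Nat.card_pos hd).trans cE))) hi
  have hE : E ≤ center A := by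
    rcases hS with hS | hS | hS
    · exact key 19 (by norm_num) (by rw [hS]; norm_num) (by decide)
    · exact key 19 (by norm_num) (by rw [hS]; norm_num) (by decide)
    · exact key 29 (by norm_num) (by rw [hS]; norm_num) (by decide)
  have hA : A ≤ centralizer {(t : G)} := fun g hg => mem_centralizer_singleton_iff.2 (congrArg Subtype.val
    (mem_center_iff.1 (hE ⟨tN, by rw [← sq, ← to2, pow_orderOf_eq_one], tc⟩) ⟨g, hg⟩))
  have hd : Nat.card S ∣ Nat.card (centralizer {(t : G)}) :=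
    (Dvd.intro_left _ (Red.card_mul c)).trans (card_dvd_of_le hA)
  rcases m.inv_cases (u := t) (by rw [orderOf_coe, to2]) with h | h <;>
    rw [← card_centralizer_of_isConj h] at hd
  · rw [← m.cent_z, ← Nat.card_congr (MonoidHom.ofInjective m.inj).toEquiv, card_C] at hd
    rcases hS with hS | hS | hS <;> rw [hS] at hd <;> exact absurd hd (by norm_num)
  · rw [m.cent_t, m.card_K] at hd
    rcases hS with hS | hS | hS
    · exact ⟨hS, t, h, hA⟩
    all_goals rw [hS] at hd; exact absurd hd (by norm_num)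

end CfsgLib.Pariah
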