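import Mathlib
import Cfsg.Agent.Lib.Pariah.Red
import Cfsg.Agent.Lib.PF.Wielandt
import Cfsg.Agent.Lib.Tech.Invol

/-!
A normal 2-subgroup of a minimal cover of a group containing `19 : 9`.
-/

set_option autoImplicit false

namespace CfsgLib.Pariah

open Subgroup

namespace Even

open CfsgLib.PF

section av

variable {W : Type*} [CommGroup W] [Finite W]

/-- the averaging operator of a group of automorphisms -/
noncomputable def av (U : Subgroup (MulAut W)) : W →* W where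
  toFun w := ∏ᶠ g : U, (g : MulAut W) w
  map_one' := by simp
  map_mul' a b := by
    simp only [map_mul]
    exact finprod_mul_distrib (Set.toFinite _) (Set.toFinite _)

theorem av_apply (U : Subgroup (MulAut W)) (w : W) : av U w = ∏ᶠ g : U, (g : MulAut W) w := rfl

theorem av_fix {U : Subgroup (MulAut W)} {g : MulAut W} (hg : g ∈ U) (w : W) : g (av U w) = av U w := by
  rw [av_apply, MulEquiv.map_finprod]
  exact finprod_comp_equiv (Equiv.mulLeft (⟨g, hg⟩ : U)) (f := fun h : U => (h : MulAut W) w)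

theorem av_of_fix {U : Subgroup (MulAut W)} (h2 : ∀ w : W, w * w = 1) (ho : Odd (Nat.card U)) {w : W}
    (h : ∀ g ∈ U, g w = w) : av U w = w := by
  have := Fintype.ofFinite U
  obtain ⟨k, hk⟩ := ho
  rw [av_apply, finprod_eq_prod_of_fintype, Finset.prod_congr rfl fun (g : U) _ => h g g.2, Finset.prod_const,
    Finset.card_univ, ← Nat.card_eq_fintype_card, hk, pow_succ, pow_mul, sq, h2, one_pow, one_mul]

theorem av_conj {U : Subgroup (MulAut W)} {y : MulAut W} (hy : y ∈ normalizer (U : Set (MulAut W))) (w : W) :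
    y (av U w) = av U (y w) := by
  rw [av_apply, av_apply, MulEquiv.map_finprod,
    ← finprod_comp_equiv (U.normalizerMonoidHom ⟨y, hy⟩).toEquiv (f := fun h : U => (h : MulAut W) (y w))]
  refine finprod_congr fun g => ?_
  change _ = (y * g * y⁻¹) (y w)
  simp

theorem av_adj {V : Type*} [CommGroup V] {U : Subgroup (MulAut W)} (β : W →* W →* V)
    (h : ∀ g ∈ U, ∀ a w, β (g a) (g w) = β a w) (a w : W) : β (av U a) w = β a (av U w) := by
  have := Fintype.ofFinite U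
  rw [av_apply, av_apply, finprod_eq_prod_of_fintype, finprod_eq_prod_of_fintype, map_prod, map_prod,
    MonoidHom.finsetProd_apply]
  refine Fintype.prod_equiv (Equiv.inv U) _ _ fun g => ?_
  rw [← h g g.2 a]
  simp

theorem core {V : Type*} [CommGroup V] (h2 : ∀ w : W, w * w = 1) {X Y : MulAut W} (hX : X ^ 19 = 1) (X1 : X ≠ 1)
    (hY : Y ^ 9 = 1) (hYX : Y * X * Y⁻¹ = X ^ 4) (hW : Nat.card W < 2 ^ 36) (β : W →* W →* V)
    (bX : ∀ a w, β (X a) (X w) = β a w) (bY : ∀ a w, β (Y a) (Y w) = β a w) (alt : ∀ a, β a a = 1) :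
    2 ^ 15 < Nat.card W ∧ ∃ a, a ≠ 1 ∧ ∃ t, ∀ w, β a w = 1 ∨ β a w = t := by
  classical
  have : Fact (Nat.Prime 19) := ⟨by norm_num⟩
  have := Fact.mk Nat.prime_two
  have oX : orderOf X = 19 := orderOf_eq_prime hX X1
  have hc : ∀ j i : ℕ, Y ^ j * X ^ i * (Y ^ j)⁻¹ = X ^ (4 ^ j * i) := fun j i => by
    rw [← conj_pow, pow_mul]
    congr 1
    induction j with
    | zero => simp
    | succ j ih =>
      calc Y ^ (j + 1) * X * (Y ^ (j + 1))⁻¹ = Y ^ j * (Y * X * Y⁻¹) * (Y ^ j)⁻¹ := by rw [pow_succ]; group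
        _ = _ := by rw [hYX, ← conj_pow, ih, ← pow_mul, pow_succ]
  have fp : ∀ j < 9, j ≠ 0 → ∀ i < 19, Y ^ j * X ^ i = X ^ i * Y ^ j → i = 0 := fun j hj j0 i hi e => by
    have h1 := hc j i
    rw [e, mul_inv_cancel_right, pow_eq_pow_iff_modEq, oX] at h1
    exact (by decide : ∀ j < 9, j ≠ 0 → ∀ i < 19, i ≡ 4 ^ j * i [MOD 19] → i = 0) j hj j0 i hi h1
  have oY : orderOf Y = 9 := by
    have := Fact.mk Nat.prime_three
    refine orderOf_eq_prime_pow (p := 3) (n := 1) (fun e => ?_) hY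
    exact absurd (fp 3 (by norm_num) (by norm_num) 1 (by norm_num) (by rw [show Y ^ 3 = 1 from e]; simp)) one_ne_zero
  set U := zpowers X with hU
  set E := zpowers Y with hE
  have cU : Nat.card U = 19 := by rw [hU, Nat.card_zpowers, oX]
  have cE : Nat.card E = 9 := by rw [hE, Nat.card_zpowers, oY]
  have memU : ∀ g ∈ U, ∃ i < 19, g = X ^ i := fun g hg => by
    obtain ⟨i, hi, e⟩ := Finset.mem_image.1 (mem_zpowers_iff_mem_range_orderOf.1 hg)
    exact ⟨i, oX ▸ Finset.mem_range.1 hi, e.symm⟩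
  have memE : ∀ g ∈ E, ∃ i < 9, g = Y ^ i := fun g hg => by
    obtain ⟨i, hi, e⟩ := Finset.mem_image.1 (mem_zpowers_iff_mem_range_orderOf.1 hg)
    exact ⟨i, oY ▸ Finset.mem_range.1 hi, e.symm⟩
  have hUn : E ≤ normalizer (U : Set (MulAut W)) := fun g hg => Tech.mem_normalizer_of_forall fun x hx => by
    obtain ⟨j, -, rfl⟩ := memE g hg
    obtain ⟨i, -, rfl⟩ := memU x hx
    rw [hc]
    exact pow_mem (mem_zpowers X) _
  have hUE : U ⊓ E = ⊥ := disjoint_iff.1 (disjoint_of_coprime_natCard (by rw [cU, cE]; norm_num))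
  have hN : (U.subgroupOf (U ⊔ E)).Normal := normal_subgroupOf_of_le_normalizer (sup_le le_normalizer hUn)
  have hbot : U.subgroupOf (U ⊔ E) ⊓ E.subgroupOf (U ⊔ E) = ⊥ := by
    rw [eq_bot_iff]; intro x hx; exact Subtype.ext (mem_bot.mp (hUE ▸ hx))
  have htop : U.subgroupOf (U ⊔ E) ⊔ E.subgroupOf (U ⊔ E) = ⊤ := by
    rw [← subgroupOf_sup le_sup_left le_sup_right, subgroupOf_self]
  have cE' : Nat.card (E.subgroupOf (U ⊔ E)) = 9 := by
    rw [Nat.card_congr (subgroupOfEquivOfLe le_sup_right).toEquiv, cE]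
  have cL : Nat.card ↥(U ⊔ E) = 171 := by
    rw [← (isComplement'_of_disjoint_and_mul_eq_univ (disjoint_iff.mpr hbot)
      (by rw [← normal_mul, htop]; rfl)).card_mul_card, cE',
      Nat.card_congr (subgroupOfEquivOfLe le_sup_left).toEquiv, cU]
  have pW : IsPGroup 2 W := fun w => ⟨1, by rw [pow_one, sq, h2]⟩
  obtain ⟨n, hn⟩ := IsPGroup.iff_card.1 pW
  have hw := wielandt_frobenius_action (U.subgroupOf (U ⊔ E)) (E.subgroupOf (U ⊔ E)) hbot htop
    (fun e he e1 x hx h => Subtype.ext (by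
      obtain ⟨j, hj, ej⟩ := memE e he
      obtain ⟨i, hi, ei⟩ := memU x hx
      have h' := congrArg Subtype.val h
      simp only [coe_mul, ej, ei] at h'
      rw [ei, fp j hj (fun j0 => e1 (Subtype.ext (by rw [ej, j0]; rfl))) i hi h']
      rfl)) (U ⊔ E).subtype inferInstance (by rw [hn, cL]; exact Nat.Coprime.pow_left _ (by norm_num))
  set CX := actFix (U ⊔ E).subtype (U.subgroupOf (U ⊔ E))
  set CY := actFix (U ⊔ E).subtype (E.subgroupOf (U ⊔ E))
  set CF := actFix (U ⊔ E).subtype ⊤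
  have mX : ∀ w, w ∈ CX ↔ ∀ g ∈ U, g w = w := fun w =>
    ⟨fun h g hg => h ⟨g, mem_sup_left hg⟩ hg, fun h g hg => h g hg⟩
  have mY : ∀ w, w ∈ CY ↔ ∀ g ∈ E, g w = w := fun w =>
    ⟨fun h g hg => h ⟨g, mem_sup_right hg⟩ hg, fun h g hg => h g hg⟩
  have mF : ∀ w, w ∈ CF ↔ w ∈ CX ∧ w ∈ CY := fun w =>
    ⟨fun h => ⟨fun g _ => h g trivial, fun g _ => h g trivial⟩, fun h g _ =>
      (sup_le (fun x hx => (mX w).1 h.1 x hx) (fun x hx => (mY w).1 h.2 x hx) :
        U ⊔ E ≤ MulAction.stabilizer (MulAut W) w) g.2⟩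
  have eX : ∀ w ∈ CX, av U w = w := fun w h => av_of_fix h2 (by rw [cU]; decide) ((mX w).1 h)
  have eY : ∀ w ∈ CY, av E w = w := fun w h => av_of_fix h2 (by rw [cE]; decide) ((mY w).1 h)
  have aX : ∀ w, av U w ∈ CX := fun w => (mX _).2 fun g hg => av_fix hg w
  have aY : ∀ w, av E w ∈ CY := fun w => (mY _).2 fun g hg => av_fix hg w
  have aXY : ∀ w ∈ CY, av U w ∈ CY := fun w h => (mY _).2 fun g hg => by rw [av_conj (hUn hg), (mY w).1 h g hg]
  have r1 : (av U).range = CX := le_antisymm (by rintro _ ⟨w, rfl⟩; exact aX w) fun w h => ⟨w, eX w h⟩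
  have r2 : ((av U).comp CY.subtype).range = CF := le_antisymm (by
    rintro _ ⟨w, rfl⟩
    exact (mF _).2 ⟨aX _, aXY _ w.2⟩) fun w h => ⟨⟨w, ((mF w).1 h).2⟩, eX w ((mF w).1 h).1⟩
  have c1 := (av U).ker.card_mul_index
  have c2 := ((av U).comp CY.subtype).ker.card_mul_index
  rw [index_ker, r1] at c1
  rw [index_ker, r2] at c2
  set W0 := ((av U).comp CY.subtype).ker
  have c3 : Nat.card (av U).ker = Nat.card W0 ^ 9 := by
    rw [cE', ← c1, ← c2, mul_pow] at hw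
    have h1 := Nat.eq_of_mul_eq_mul_right Nat.card_pos ((mul_assoc _ _ _).trans hw)
    rw [mul_comm] at h1
    exact Nat.eq_of_mul_eq_mul_right (pow_pos Nat.card_pos 9) h1
  obtain ⟨m, hm⟩ := IsPGroup.iff_card.1 ((pW.to_subgroup CY).to_subgroup W0)
  have c4 : Nat.card (av U).ker ≡ 1 [MOD 19] := by
    have h1 := (IsPGroup.of_card (p := 19) (n := 1) (by simpa using cU)).card_modEq_card_fixedPoints W
    have h3 : Nat.card (MulAction.fixedPoints U W) = Nat.card CX :=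
      Nat.card_congr (Equiv.subtypeEquivRight fun w => by
        rw [mX]
        exact ⟨fun h g hg => h ⟨g, hg⟩, fun h g => h g g.2⟩)
    obtain ⟨l, hl⟩ := IsPGroup.iff_card.1 (pW.to_subgroup CX)
    rw [h3, ← c1] at h1
    exact Nat.ModEq.cancel_right_of_coprime (c := Nat.card CX)
      (by rw [hl]; exact Nat.Coprime.pow_right _ (by norm_num)) (by rwa [one_mul])
  have c5 : Nat.card (av U).ker ≤ Nat.card W := card_le_card_group _
  have c6 : m = 2 := by
    rw [c3, hm, ← pow_mul] at c4 c5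
    have h1 := (Nat.pow_lt_pow_iff_right one_lt_two).1 (c5.trans_lt hW)
    have h3 : m ≠ 0 := fun e => X1 (by
      rw [hm, e, pow_zero, one_pow] at c3
      rw [c3, one_mul] at c1
      ext w
      exact (mX w).1 ((eq_top_of_card_eq _ c1).ge (mem_top w)) X (mem_zpowers X))
    have h4 : m < 4 := by omega
    interval_cases m
    · exact absurd rfl h3
    · exact absurd c4 (by decide)
    · rfl
    · exact absurd c4 (by decide)
  rw [c6] at hm
  refine ⟨lt_of_lt_of_le (by rw [c3, hm]; norm_num) c5, ?_⟩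
  have nt : Nontrivial W0 := Finite.one_lt_card_iff_nontrivial.1 (by rw [hm]; norm_num)
  obtain ⟨a, a1⟩ := exists_ne (1 : W0)
  let ψ : W0 →* V := (β a).comp (CY.subtype.comp W0.subtype)
  have c7 : Nat.card ψ.range ≤ 2 := by
    have h1 := ψ.ker.card_mul_index
    have h3 : 1 < Nat.card ψ.ker := Finite.one_lt_card_iff_nontrivial.2 ⟨⟨a, alt _⟩, 1, fun e => a1 (congrArg Subtype.val e)⟩
    rw [index_ker, hm] at h1
    nlinarith
  have pU : ∀ g ∈ U, ∀ a w, β (g a) (g w) = β a w := fun g hg => by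
    obtain ⟨i, -, rfl⟩ := memU g hg
    induction i with
    | zero => simp
    | succ i ih => intro a w; rw [pow_succ', MulAut.mul_apply, MulAut.mul_apply, bX, ih (pow_mem (mem_zpowers X) _)]
  have pE : ∀ g ∈ E, ∀ a w, β (g a) (g w) = β a w := fun g hg => by
    obtain ⟨i, -, rfl⟩ := memE g hg
    induction i with
    | zero => simp
    | succ i ih => intro a w; rw [pow_succ', MulAut.mul_apply, MulAut.mul_apply, bY, ih (pow_mem (mem_zpowers Y) _)]
  have key : ∀ w, β a w ∈ ψ.range := fun w => by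
    have h1 : av U (a : CY) = 1 := a.2
    refine ⟨⟨⟨av E w * av U (av E w), mul_mem (aY w) (aXY _ (aY w))⟩, ?_⟩, ?_⟩
    · change av U (av E w * av U (av E w)) = 1
      rw [map_mul, eX _ (aX _), h2]
    · change β a (av E w * av U (av E w)) = _
      rw [map_mul, ← av_adj β pU, h1, map_one, MonoidHom.one_apply, mul_one, ← av_adj β pE, eY _ a.1.2]
  refine ⟨a, fun e => a1 (Subtype.ext (Subtype.ext e)), ?_⟩
  by_contra! h
  obtain ⟨w, w1, -⟩ := h 1
  obtain ⟨w', w2, w3⟩ := h (β a w)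
  have : Finite ψ.range := Finite.of_surjective _ ψ.rangeRestrict_surjective
  have := Fintype.ofFinite ψ.range
  have := Fintype.two_lt_card_iff.2 ⟨(1 : ψ.range), ⟨_, key w⟩, ⟨_, key w'⟩, fun e => w1 (congrArg Subtype.val e).symm,
    fun e => w2 (congrArg Subtype.val e).symm, fun e => w3 (congrArg Subtype.val e).symm⟩
  rw [← Nat.card_eq_fintype_card] at this
  omega

end av

end Even

theorem two_central {A S : Type*} [Group A] [Group S] [Finite A] {σ : A →* S} (c : Cov σ) [IsSimpleGroup S]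
    {x u : S} (hx : orderOf x = 19) (hu : u ^ 9 = 1) (hux : u * x * u⁻¹ = x ^ 4)
    (h0 : ∀ b ∈ σ.ker, Odd (orderOf b) → b ∈ center A)
    (h1 : ∀ E : Subgroup A, (∀ a ∈ E, a * a = 1) → Nat.card E ≤ 2 ^ 15)
    (h2 : ∀ t ∈ center A, t * t = 1 → ∀ X : Subgroup A, (∀ a ∈ X, a * a = 1 ∨ a * a = t) →
      (∀ a ∈ X, ∀ b ∈ X, a * b = b * a ∨ a * b = b * a * t) → Nat.card X ≤ 2 ^ 15)
    (h3 : ∀ E : Subgroup A, E ≤ center A → (∀ a ∈ E, a * a = 1) → Nat.card E ≤ 4)
    {N : Subgroup A} (hN : N.Normal) (hp : IsPGroup 2 N) (hk : N ≤ σ.ker) (h4 : Nat.card N < 2 ^ 36) :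
    N ≤ center A := by
  by_contra hne
  have := Fact.mk Nat.prime_two
  obtain ⟨P, ⟨Pn, PN, PZ⟩, hmin⟩ := (wellFounded_lt (α := Subgroup A)).has_min
    {P | P.Normal ∧ P ≤ N ∧ ¬ P ≤ center A} ⟨N, hN, le_rfl, hne⟩
  have min : ∀ D : Subgroup A, D.Normal → D ≤ P → ∀ g ∈ D, g ∉ center A → P ≤ D := fun D h1 h2 g hg h3 =>
    (eq_of_le_of_not_lt h2 (hmin D ⟨h1, h2.trans PN, fun h => h3 (h hg)⟩)).ge
  obtain ⟨xh, rfl⟩ := c.surj x
  obtain ⟨uh, rfl⟩ := c.surj u
  have x1 : σ xh ≠ 1 := fun e => by rw [e, orderOf_one] at hx; omega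
  have cz : ∀ {z : A}, z ∈ center A → ∀ g, g * z = z * g := fun hz g => mem_center_iff.1 hz g
  let _ : CommGroup (center A) := { (inferInstance : Group (center A)) with
    mul_comm := fun a b => Subtype.ext (cz b.2 a) }
  have cmul : ∀ g y y' : A, g * y' * g⁻¹ * y'⁻¹ ∈ center A →
      g * (y * y') * g⁻¹ * (y * y')⁻¹ = g * y * g⁻¹ * y⁻¹ * (g * y' * g⁻¹ * y'⁻¹) := fun g y y' h => by
    calc _ = g * y * g⁻¹ * (g * y' * g⁻¹ * y'⁻¹ * y⁻¹) := by group
      _ = _ := by rw [← cz h]; group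
  have Z2 : ∀ g : A, (∀ y, g * y * g⁻¹ * y⁻¹ ∈ center A) → g ∈ center A := fun g h => by
    let ψ : A →* center A := MonoidHom.mk' (fun y => ⟨_, h y⟩) fun y y' => Subtype.ext (cmul g y y' (h y'))
    have h1 := c.eq_top ψ.normal_ker (x := uh * xh * uh⁻¹ * xh⁻¹) (by
      rw [MonoidHom.mem_ker, map_mul, map_mul, map_mul, map_inv, map_inv, mul_comm (ψ uh)]; group) (by
      rw [map_mul, map_mul, map_mul, map_inv, map_inv, hux, pow_succ, mul_inv_cancel_right]
      intro e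
      have := orderOf_dvd_of_pow_eq_one e
      rw [hx] at this
      omega)
    refine mem_center_iff.2 fun y => ?_
    have h2 : g * y * g⁻¹ * y⁻¹ = 1 := congrArg Subtype.val (h1.ge (mem_top y))
    rw [eq_comm, ← mul_inv_eq_one, ← h2]; group
  set mk := QuotientGroup.mk' (center A) with hmk
  have mk1 : ∀ g, mk g = 1 ↔ g ∈ center A := fun g => QuotientGroup.eq_one_iff g
  have ms : Function.Surjective mk := QuotientGroup.mk'_surjective _
  obtain ⟨N0, n1, n2, n3, n4⟩ := c.exists_two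
  have Wn : (P.map mk).Normal := Pn.map mk ms
  have Tn : ((N ⊔ N0).map mk).Normal := (Subgroup.sup_normal N N0).map mk ms
  obtain ⟨_, ⟨z, zP, rfl⟩, zo, zc⟩ := Tech.exists_mem_center_of_normalized (p := 2) (T := (N ⊔ N0).map mk)
    (N := P.map mk) ((hp.to_sup_of_normal_right n2).map mk) (map_mono (PN.trans le_sup_left)) le_normalizer_of_normal
    (fun e => PZ fun g hg => (mk1 g).1 (mem_bot.1 (e ▸ mem_map_of_mem mk hg)))
  have zZ : z ∉ center A := fun e => by rw [(mk1 z).2 e, orderOf_one] at zo; omega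
  have cK : ∀ p ∈ P, ∀ b ∈ σ.ker, mk b * mk p = mk p * mk b := fun p hp b hb => by
    obtain ⟨n, hn, d, hd, ho, rfl⟩ := n4 b hb
    rw [map_mul, (mk1 d).2 (h0 d hd ho), mul_one]
    exact (min (P ⊓ (centralizer ((N ⊔ N0).map mk : Set (A ⧸ center A))).comap mk) inferInstance inf_le_left z
      ⟨zP, zc⟩ zZ hp).2 _ (mem_map_of_mem mk (mem_sup_right hn))
  have cP : ∀ p ∈ P, ∀ q ∈ P, p * q * p⁻¹ * q⁻¹ ∈ center A := fun p hp q hq => by
    rw [← mk1, map_mul, map_mul, map_mul, map_inv, map_inv, ← cK p hp q (hk (PN hq))]; group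
  have sqm : ∀ p ∈ P, ∀ q ∈ P, p * q * (p * q) = q * p * q⁻¹ * p⁻¹ * (p * p * (q * q)) := fun p hp q hq => by
    calc _ = p * (q * p * q⁻¹ * p⁻¹) * (p * (q * q)) := by group
      _ = _ := by rw [cz (cP q hq p hp)]; group
  have sP : ∀ p ∈ P, p * p ∈ center A := by
    let D : Subgroup A :=
      { carrier := {g | g ∈ P ∧ g * g ∈ center A}
        one_mem' := ⟨one_mem _, by simp⟩
        mul_mem' := fun {a b} ha hb => ⟨mul_mem ha.1 hb.1, by
          rw [sqm a ha.1 b hb.1]; exact mul_mem (cP b hb.1 a ha.1) (mul_mem ha.2 hb.2)⟩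
        inv_mem' := fun ha => ⟨inv_mem ha.1, by rw [← mul_inv_rev]; exact inv_mem ha.2⟩ }
    exact fun p hp => (min D ⟨fun a ha g => ⟨Pn.conj_mem a ha.1 g, by
      rw [conj_mul]; exact (normal_of_characteristic _).conj_mem _ ha.2 g⟩⟩ (fun a ha => ha.1) z ⟨zP, by
      rw [← mk1, map_mul, ← sq, ← zo, pow_orderOf_eq_one]⟩ zZ hp).2
  choose r rP rm using fun w : P.map mk => w.2
  let _ : CommGroup (P.map mk) := { (inferInstance : Group (P.map mk)) with
    mul_comm := fun a b => Subtype.ext (by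
      rw [coe_mul, coe_mul, ← rm a, ← rm b]; exact cK _ (rP b) _ (hk (PN (rP a)))) }
  let φ : A →* MulAut (P.map mk) := (MulAut.conjNormal (H := P.map mk)).comp mk
  have hφ : ∀ g w, (φ g w : A ⧸ center A) = mk g * w * (mk g)⁻¹ := fun _ _ => rfl
  have φK : ∀ b, σ b = 1 → φ b = 1 := fun b hb => MulEquiv.ext fun w => Subtype.ext (by
    rw [hφ, ← rm w, cK _ (rP w) b hb, mul_inv_cancel_right, rm]; rfl)
  let β0 : P.map mk → P.map mk → center A := fun w w' => ⟨_, cP _ (rP w) _ (rP w')⟩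
  have B : ∀ (w w' : P.map mk) (p q : A), mk p = w → mk q = w' → (β0 w w' : A) = p * q * p⁻¹ * q⁻¹ := by
    intro w w' p q e1 e2
    have h1 : p⁻¹ * r w ∈ center A := by rw [← mk1, map_mul, map_inv, rm, e1, inv_mul_cancel]
    have h3 : q⁻¹ * r w' ∈ center A := by rw [← mk1, map_mul, map_inv, rm, e2, inv_mul_cancel]
    change r w * r w' * (r w)⁻¹ * (r w')⁻¹ = _
    rw [← mul_inv_cancel_left p (r w), ← mul_inv_cancel_left q (r w')]
    generalize p⁻¹ * r w = a at h1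
    generalize q⁻¹ * r w' = b at h3
    calc _ = p * (a * (q * b)) * a⁻¹ * (p⁻¹ * b⁻¹) * q⁻¹ := by group
      _ = p * q * (b * b⁻¹) * p⁻¹ * q⁻¹ := by rw [← cz h1, cz (inv_mem h3)]; group
      _ = _ := by group
  let β : P.map mk →* P.map mk →* center A := MonoidHom.mk' (fun w => MonoidHom.mk' (β0 w) fun a b =>
    Subtype.ext (by
      rw [B w (a * b) (r w) (r a * r b) (rm w) (by rw [map_mul, rm, rm]; rfl)]
      exact cmul _ _ _ (cP _ (rP w) _ (rP b)))) fun a b => MonoidHom.ext fun w => Subtype.ext (by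
      change (β0 (a * b) w : A) = β0 a w * β0 b w
      rw [B (a * b) w (r a * r b) (r w) (by rw [map_mul, rm, rm]; rfl) (rm w)]
      change _ = r a * r w * (r a)⁻¹ * (r w)⁻¹ * (r b * r w * (r b)⁻¹ * (r w)⁻¹)
      calc _ = r a * (r b * r w * (r b)⁻¹ * (r w)⁻¹ * (r w * (r a)⁻¹ * (r w)⁻¹)) := by group
        _ = _ := by rw [← cz (cP _ (rP b) _ (rP w))]; group)
  have bφ : ∀ g a w, β (φ g a) (φ g w) = β a w := fun g a w => Subtype.ext (by
    change (β0 _ _ : A) = r a * r w * (r a)⁻¹ * (r w)⁻¹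
    rw [B _ _ (g * r a * g⁻¹) (g * r w * g⁻¹) (by rw [hφ, map_mul, map_mul, map_inv, rm])
      (by rw [hφ, map_mul, map_mul, map_inv, rm])]
    calc _ = g * (r a * r w * (r a)⁻¹ * (r w)⁻¹) * g⁻¹ := by group
      _ = _ := by rw [cz (cP _ (rP a) _ (rP w)), mul_inv_cancel_right])
  have cW : Nat.card (P.map mk) ≤ Nat.card P := Nat.le_of_dvd Nat.card_pos (card_map_dvd P mk)
  have W2 : ∀ w : P.map mk, w * w = 1 := fun w => Subtype.ext (by
    rw [coe_mul, ← rm w, ← map_mul, (mk1 _).2 (sP _ (rP w))]; rfl)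
  obtain ⟨big, a, a1, t, ht⟩ := Even.core W2 (X := φ xh) (Y := φ uh)
    (by rw [← map_pow]; exact φK _ (by rw [map_pow, ← hx, pow_orderOf_eq_one]))
    (fun e => PZ fun p hp => Z2 p fun y => by
      have h1 : φ y = 1 := (c.eq_top φ.normal_ker e x1).ge (mem_top y)
      have h3 := hφ y ⟨_, mem_map_of_mem mk hp⟩
      rw [h1] at h3
      rw [← mk1, map_mul, map_mul, map_mul, map_inv, map_inv]
      calc _ = mk p * (mk y * mk p * (mk y)⁻¹)⁻¹ := by group
        _ = 1 := by rw [← h3]; exact mul_inv_cancel _)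
    (by rw [← map_pow]; exact φK _ (by rw [map_pow, hu]))
    (by
      rw [← mul_inv_eq_one, ← map_inv, ← map_pow, ← map_inv, ← map_mul, ← map_mul, ← map_mul]
      exact φK _ (by rw [map_mul, map_mul, map_mul, map_inv, map_inv, map_pow, hux, mul_inv_cancel]))
    ((cW.trans (card_le_of_le PN)).trans_lt h4) β (bφ xh) (bφ uh)
    (fun a => Subtype.ext (by change r a * r a * (r a)⁻¹ * (r a)⁻¹ = 1; group))
  obtain ⟨t, tZ, tt, ht⟩ : ∃ t ∈ center A, t * t = 1 ∧ ∀ q ∈ P, r a * q * (r a)⁻¹ * q⁻¹ = 1 ∨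
      r a * q * (r a)⁻¹ * q⁻¹ = t := by
    have key : ∀ q (hq : q ∈ P), r a * q * (r a)⁻¹ * q⁻¹ = β a ⟨_, mem_map_of_mem mk hq⟩ := fun q hq =>
      (B _ _ _ _ (rm a) rfl).symm
    by_cases tt : t * t = 1
    · exact ⟨t, t.2, congrArg Subtype.val tt, fun q hq => by
        rw [key q hq]; exact (ht _).imp (congrArg Subtype.val) (congrArg Subtype.val)⟩
    · exact ⟨1, one_mem _, mul_one _, fun q hq => Or.inl (by
        rw [key q hq, (ht _).resolve_right fun e => tt (by rw [← e, ← map_mul, W2, map_one])]; rfl)⟩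
  have or2 : ∀ {a b : A}, (a = 1 ∨ a = t) → (b = 1 ∨ b = t) → a * b = 1 ∨ a * b = t := by
    rintro a b (rfl | rfl) (rfl | rfl) <;> simp [tt]
  have c5 : ∀ p ∈ P, ∀ q ∈ P, p * q * p⁻¹ * q⁻¹ = 1 ∨ p * q * p⁻¹ * q⁻¹ = t := by
    let D : Subgroup A :=
      { carrier := {g | g ∈ P ∧ ∀ q ∈ P, g * q * g⁻¹ * q⁻¹ = 1 ∨ g * q * g⁻¹ * q⁻¹ = t}
        one_mem' := ⟨one_mem _, fun q _ => Or.inl (by group)⟩
        mul_mem' := fun {a b} ha hb => ⟨mul_mem ha.1 hb.1, fun q hq => by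
          have : a * b * q * (a * b)⁻¹ * q⁻¹ = a * q * a⁻¹ * q⁻¹ * (b * q * b⁻¹ * q⁻¹) := by
            calc _ = a * (b * q * b⁻¹ * q⁻¹ * (q * a⁻¹ * q⁻¹)) := by group
              _ = _ := by rw [← cz (cP b hb.1 q hq)]; group
          rw [this]
          exact or2 (ha.2 q hq) (hb.2 q hq)⟩
        inv_mem' := fun {a} ha => ⟨inv_mem ha.1, fun q hq => by
          have : a⁻¹ * q * a⁻¹⁻¹ * q⁻¹ = a * q⁻¹ * a⁻¹ * q⁻¹⁻¹ := by
            calc _ = a⁻¹ * (q * (a * q⁻¹ * a⁻¹ * q⁻¹⁻¹) * q⁻¹) * a := by group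
              _ = _ := by rw [cz (cP a ha.1 _ (inv_mem hq)), mul_inv_cancel_right, cz (cP a ha.1 _ (inv_mem hq))]; group
          rw [this]
          exact ha.2 _ (inv_mem hq)⟩ }
    exact fun p hp => (min D ⟨fun b hb g => ⟨Pn.conj_mem b hb.1 g, fun q hq => by
      have h1 := Pn.conj_mem' q hq g
      have : g * b * g⁻¹ * q * (g * b * g⁻¹)⁻¹ * q⁻¹ = b * (g⁻¹ * q * g) * b⁻¹ * (g⁻¹ * q * g)⁻¹ := by
        calc _ = g * (b * (g⁻¹ * q * g) * b⁻¹ * (g⁻¹ * q * g)⁻¹) * g⁻¹ := by group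
          _ = _ := by rw [cz (cP b hb.1 _ h1), mul_inv_cancel_right]
      rw [this]
      exact hb.2 _ h1⟩⟩ (fun b hb => hb.1) (r a) ⟨rP a, ht⟩
      (fun e => a1 (Subtype.ext (by rw [← rm a, (mk1 _).2 e]; rfl))) hp).2
  have c6 : ∀ p ∈ P, p * p = 1 ∨ p * p = t := by
    let D : Subgroup A :=
      { carrier := {g | g ∈ P ∧ (g * g = 1 ∨ g * g = t)}
        one_mem' := ⟨one_mem _, Or.inl (mul_one _)⟩
        mul_mem' := fun {a b} ha hb => ⟨mul_mem ha.1 hb.1, by
          rw [sqm a ha.1 b hb.1]; exact or2 (c5 b hb.1 a ha.1) (or2 ha.2 hb.2)⟩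
        inv_mem' := fun ha => ⟨inv_mem ha.1, by
          rw [← mul_inv_rev]
          rcases ha.2 with e | e <;> rw [e]
          exacts [Or.inl inv_one, Or.inr (inv_eq_of_mul_eq_one_right tt)]⟩ }
    obtain ⟨p, hp, y, hy⟩ : ∃ p ∈ P, ∃ y, p * y * p⁻¹ * y⁻¹ ∉ center A := by
      by_contra! h
      exact PZ fun p hp => Z2 p (h p hp)
    have hq := Pn.conj_mem _ (inv_mem hp) y
    exact fun p' hp' => (min D ⟨fun b hb g => ⟨Pn.conj_mem b hb.1 g, by
      rw [conj_mul, cz (sP b hb.1), mul_inv_cancel_right]; exact hb.2⟩⟩ (fun b hb => hb.1) _ ⟨by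
      simpa only [mul_assoc] using mul_mem hp hq, by
      have h1 := sqm p hp _ hq
      rw [conj_mul, ← mul_inv_rev, cz (inv_mem (sP p hp)), mul_inv_cancel_right, mul_inv_cancel, mul_one] at h1
      rw [show p * y * p⁻¹ * y⁻¹ = p * (y * p⁻¹ * y⁻¹) by group, h1]
      exact c5 _ hq p hp⟩ hy hp').2
  have := h2 t tZ tt P c6 fun a ha b hb => (c5 a ha b hb).imp (fun e => by rw [← mul_inv_eq_one, ← e]; group)
    fun e => by rw [cz tZ, ← e]; group
  omega

end CfsgLib.Pariah
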