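import Mathlib
import Cfsg.Agent.Lib.MultC.Out
import Cfsg.Agent.Lib.MultC.J3.Link
import Cfsg.Agent.Lib.MultC.Ru.Link
import Cfsg.Agent.Lib.MultC.ON.Link

/-! Words in `J3`, `Ru`, `ON` (generated data). -/

set_option autoImplicit false
set_option maxRecDepth 100000
set_option Elab.async false

namespace CfsgLib.Pariah.Wd

open CfsgLib.Comput CfsgLib.MultC CfsgLib.Fischer

/-- equations in `J3` -/
noncomputable def eqJ : Eqn → Bool := eqChk (stepT 6156 13 J3.U) (idTab 6156 13)
/-- equations in `Ru` -/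
noncomputable def eqR : Eqn → Bool := eqChk (stepT 4060 12 Ru.U) (idTab 4060 12)
/-- equations in `ON` -/
noncomputable def eqO : Eqn → Bool := eqOn (stepH ON.U) [0, 3, 593]

/-- a word -/
def jx : ℕ := 0xb110f1411
/-- a word -/
def ju : ℕ := 0x20b0203121211
/-- a word -/
def rv : ℕ := 0x1040606060b0f0c0d1613161a191a
/-- a word -/
def rw : ℕ := 0x5020704010b0d0d0c171717121c1c19
/-- a word -/
def rx : ℕ := 0x707040b0f100a111711
/-- a word -/
def rg : ℕ := 18
/-- a word -/
def rgi : ℕ := 20
/-- a word -/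
def ot : ℕ := 0x1b1b
/-- a word -/
def ot2 : ℕ := 0x141417141a211e
/-- a word -/
def ox : ℕ := 0x18181318181b21
/-- a word -/
def oa : ℕ := 0x151a1518191621221c1b
/-- a word -/
def ob : ℕ := 0x16161a1a151a2421
/-- a word -/
def oy1 : ℕ := 0x1716151a1a1921
/-- a word -/
def og : ℕ := 0x319
/-- a word -/
def ogi : ℕ := 0x170a
/-- a word -/
def og1 : ℕ := 0x1717171618
/-- a word -/
def og2 : ℕ := 0x19131a1c
/-- a word -/
def oy2 : ℕ := 0x61207050f1a1618151a17241c1b
/-- a word -/
def ok1 : ℕ := 0x11070f01010f1314131321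
/-- a word -/
def ok2 : ℕ := 0x100805100f171519182124
/-- a word -/
def ok3 : ℕ := 0x5011716151a1a19

theorem j_x : eqJ ([jx, jx, jx, jx, jx, jx, jx, jx, jx, jx, jx, jx, jx, jx, jx, jx, jx, jx, jx], []) = true := by decide +kernel
theorem j_u : eqJ ([ju, ju, ju, ju, ju, ju, ju, ju, ju], []) = true := by decide +kernel
theorem j_c : eqJ ([ju, jx], [jx, jx, jx, jx, ju]) = true := by decide +kernel
theorem j_n : neOn (stepH J3.U) 6156 [0, 1] ([jx], []) = true := by decide +kernel
theorem r_v : eqR ([rv, rv], []) = true := by decide +kernel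
theorem r_w : eqR ([rw, rw], []) = true := by decide +kernel
theorem r_vw : eqR ([rv, rw], [rw, rv]) = true := by decide +kernel
theorem r_g : eqR ([rg, rgi], []) = true := by decide +kernel
theorem r_s : eqR ([rv, rg, rv, rgi, rv, rg, rv, rgi, rv, rg, rv, rgi, rv, rg, rv, rgi, rv, rg, rv, rgi, rv, rg, rv, rgi, rv, rg, rv, rgi], []) = true := by decide +kernel
theorem r_x : eqR ([rx, rx, rx, rx, rx, rx, rx, rx, rx, rx, rx, rx, rx], []) = true := by decide +kernel
theorem r_xv : eqR ([rx, rv], [rv, rx]) = true := by decide +kernel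
theorem r_xw : eqR ([rx, rw], [rw, rx]) = true := by decide +kernel
theorem r_n : allL (neOn (stepH Ru.U) 4060 [0, 1, 2]) [([rw], []), ([rv], [rw]), ([rv, rg, rv, rgi], []), ([rx], [])]
    = true := by decide +kernel
theorem o_tt : eqO ([ot, ot], []) = true := by decide +kernel
theorem o_g : eqO ([og, ogi], []) = true := by decide +kernel
theorem o_s : eqO ([ot, og, ot, ogi, ot, og, ot, ogi, ot, og, ot, ogi, ot, og, ot, ogi, ot, og, ot, ogi, ot, og, ot, ogi, ot, og, ot, ogi], []) = true := by decide +kernel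
theorem o_tc : eqO ([ot2, ot], [ot, ot2]) = true := by decide +kernel
theorem o_c1 : eqO ([og1, ot], [ot2, og1]) = true := by decide +kernel
theorem o_c2 : eqO ([og2, ot], [ot2, ot, og2]) = true := by decide +kernel
theorem o_xt : eqO ([ox, ot], [ot, ox]) = true := by decide +kernel
theorem o_x7 : eqO ([ox, ox, ox, ox, ox, ox, ox], []) = true := by decide +kernel
theorem o_a7 : eqO ([oa, oa, oa, oa, oa, oa, oa], []) = true := by decide +kernel
theorem o_b7 : eqO ([ob, ob, ob, ob, ob, ob, ob], []) = true := by decide +kernel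
theorem o_ax : eqO ([oa, ox], [ox, oa]) = true := by decide +kernel
theorem o_bx : eqO ([ob, ox], [ox, ob]) = true := by decide +kernel
theorem o_ab : eqO ([oa, ob], [ox, ob, oa]) = true := by decide +kernel
theorem o_y1t : eqO ([oy1, ot], [ot, oy1]) = true := by decide +kernel
theorem o_y2t : eqO ([oy2, ot], [ot, oy2]) = true := by decide +kernel
theorem o_y13 : eqO ([oy1, oy1, oy1], []) = true := by decide +kernel
theorem o_y12 : eqO ([oy1, oy2], [oy2, oy1]) = true := by decide +kernel
theorem o_yx : eqO ([oy1, ox], [ox, ox, oy1]) = true := by decide +kernel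
theorem o_k1t : eqO ([ok1, ot], [ot, ok1]) = true := by decide +kernel
theorem o_k2t : eqO ([ok2, ot], [ot, ok2]) = true := by decide +kernel
theorem o_k3t : eqO ([ok3, ot], [ot, ok3]) = true := by decide +kernel
theorem o_ky1 : eqO ([ok1, oy1], [oy2, ok1]) = true := by decide +kernel
theorem o_ky2 : eqO ([ok2, oy1], [oy1, oy2, ok2]) = true := by decide +kernel
theorem o_ky3 : eqO ([oy2, ok3, oy1], [oy1, ok3]) = true := by decide +kernel
theorem o_n : allL (neOn (stepH ON.U) 122760 [0, 3, 593]) [([ot, og, ot, ogi], []), ([ox], []), ([oy2], []),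
    ([oy2], [oy1]), ([oy2], [oy1, oy1])] = true := by decide +kernel

end CfsgLib.Pariah.Wd
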