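import Mathlib
import Cfsg.Agent.Lib.Pariah.Defs
import Cfsg.Agent.Lib.Pariah.WordsD
import Cfsg.Agent.Lib.HJC.J3
import Cfsg.Agent.Lib.ON.Cent
import Cfsg.Agent.Lib.Ru.Main

/-!
Explicit elements in `J3`, `ON` and `Ru`.
-/

set_option autoImplicit false

namespace CfsgLib.Pariah

open Cfsg

namespace Wd

open CfsgLib.Comput CfsgLib.MultC CfsgLib.Fischer

theorem big60 {G : Type*} [Group G] {s : G} (h : s ^ 7 = 1) (h1 : s ≠ 1) : s ^ 60 ≠ 1 := fun e => by
  have : Fact (Nat.Prime 7) := ⟨by norm_num⟩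
  have h2 := orderOf_dvd_of_pow_eq_one e
  rw [orderOf_eq_prime h h1] at h2
  norm_num at h2

theorem conj_of {G : Type*} [Group G] {g a b : G} (h : g * a = b * g) : g * a * g⁻¹ = b := by
  rw [h, mul_inv_cancel_right]

theorem frob : ∃ x u : MultC.J3.PG, orderOf x = 19 ∧ u ^ 9 = 1 ∧ u * x * u⁻¹ = x ^ 4 := by
  have : Fact (Nat.Prime 19) := ⟨by norm_num⟩
  obtain ⟨α, hα⟩ := (MultC.J3.realU MultC.J3.real0).letters
  have heq : ∀ {l l'}, eqJ (l, l') = true → (l.map (ev α)).prod = (l'.map (ev α)).prod :=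
    fun h => (MultC.J3.model.wm hα (by norm_num)).holds h
  have hn := neOn_sound (SM.salt (MultC.J3.model.sm hα)) j_n
  refine ⟨ev α jx, ev α ju, orderOf_eq_prime ?_ fun e => hn ?_, ?_, conj_of ?_⟩
  · simpa [pow_succ, mul_assoc] using heq j_x
  · simpa [Eqn.Holds, Comput.evL] using e
  · simpa [pow_succ, mul_assoc] using heq j_u
  · simpa [pow_succ, mul_assoc] using heq j_c

theorem rd : ∃ v w x g : MultC.Ru.PG, RD v w x g := by
  obtain ⟨α, hα⟩ := (MultC.Ru.realU MultC.Ru.real0).letters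
  have heq : ∀ {l l'}, eqR (l, l') = true → (l.map (ev α)).prod = (l'.map (ev α)).prod :=
    fun h => (MultC.Ru.model.wm hα (by norm_num)).holds h
  have hn : ∀ l l', (l, l') ∈ [([rw], []), ([rv], [rw]), ([rv, rg, rv, rgi], []), ([rx], [])] →
      (l.map (ev α)).prod ≠ (l'.map (ev α)).prod :=
    fun l l' h => neOn_sound (SM.salt (MultC.Ru.model.sm hα)) (allL_sound r_n _ h)
  have hg : (ev α rg)⁻¹ = ev α rgi := inv_eq_of_mul_eq_one_right (by simpa using heq r_g)
  refine ⟨ev α rv, ev α rw, ev α rx, ev α rg, ?_, ?_, ?_, ?_, ?_, big60 ?_ ?_, ?_, ?_, ?_, ?_⟩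
  · simpa using heq r_v
  · simpa using heq r_w
  · simpa using heq r_vw
  · simpa using hn [rw] [] (by simp)
  · simpa using hn [rv] [rw] (by simp)
  · rw [hg]
    simpa [pow_succ, mul_assoc] using heq r_s
  · rw [hg]
    simpa [mul_assoc] using hn [rv, rg, rv, rgi] [] (by simp)
  · simpa [pow_succ, mul_assoc] using heq r_x
  · simpa using hn [rx] [] (by simp)
  · simpa using heq r_xv
  · simpa using heq r_xw

end Wd

theorem frob_J3 : ∃ x u : J3.PG, orderOf x = 19 ∧ u ^ 9 = 1 ∧ u * x * u⁻¹ = x ^ 4 := Wd.frob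

open CfsgLib.Comput CfsgLib.MultC CfsgLib.Fischer Wd in
theorem od_ON : ∃ t t' x a b y₁ y₂ g g₁ g₂ k₁ k₂ k₃ : Spor.ON, OD t t' x a b y₁ y₂ g g₁ g₂ k₁ k₂ k₃ := by
  obtain ⟨α, hα⟩ := (MultC.ON.realU MultC.ON.real0).letters
  have M := SM.salt (MultC.ON.model.sm hα)
  have heq : ∀ {l l'}, eqO (l, l') = true → (l.map (ev α)).prod = (l'.map (ev α)).prod := fun {l l'} h => by
    refine (inv_mul_eq_one.1 (CfsgLib.ON.base ((Comput.evL α l')⁻¹ * Comput.evL α l) fun p hp => ?_)).symm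
    have hn : p < 122760 := by revert p; decide
    unfold eqO eqOn at h
    change ((Comput.evL α l')⁻¹ * Comput.evL α l) • ptN CfsgLib.ON.φ p = ptN CfsgLib.ON.φ p
    rw [mul_smul, smul_eq_of_beq M hn hn (allL_sound h p hp), inv_smul_smul]
  have hn : ∀ l l', (l, l') ∈ [([ot, og, ot, ogi], []), ([ox], []), ([oy2], []), ([oy2], [oy1]),
      ([oy2], [oy1, oy1])] → (l.map (ev α)).prod ≠ (l'.map (ev α)).prod :=
    fun l l' h => neOn_sound M (allL_sound o_n _ h)
  have hg : (ev α og)⁻¹ = ev α ogi := inv_eq_of_mul_eq_one_right (by simpa using heq o_g)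
  have h12 : ev α oy1 * ev α oy2 = ev α oy2 * ev α oy1 := by simpa using heq o_y12
  refine ⟨ev α ot, ev α ot2, ev α ox, ev α oa, ev α ob, ev α oy1, ev α oy2, ev α og, ev α og1, ev α og2,
    ev α ok1, ev α ok2, ev α ok3, ?_, big60 ?_ ?_, ?_, conj_of ?_, conj_of ?_, ?_, ?_, ?_, ?_, ?_, ?_, ?_, ?_, ?_,
    ?_, ?_, h12, fun i hi => ?_, conj_of ?_, ?_, ?_, ?_, conj_of ?_, conj_of ?_, conj_of ?_⟩
  · simpa using heq o_tt
  · rw [hg]
    simpa [pow_succ, mul_assoc] using heq o_s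
  · rw [hg]
    simpa [mul_assoc] using hn [ot, og, ot, ogi] [] (by simp)
  · simpa using heq o_tc
  · simpa using heq o_c1
  · simpa [mul_assoc] using heq o_c2
  · simpa using heq o_xt
  · simpa [pow_succ, mul_assoc] using heq o_x7
  · simpa using hn [ox] [] (by simp)
  · simpa [pow_succ, mul_assoc] using heq o_a7
  · simpa [pow_succ, mul_assoc] using heq o_b7
  · simpa using heq o_ax
  · simpa using heq o_bx
  · have : ev α oa * ev α ob = ev α ox * (ev α ob * ev α oa) := by simpa using heq o_ab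
    rw [this]
    group
  · simpa using heq o_y1t
  · simpa using heq o_y2t
  · simpa [pow_succ, mul_assoc] using heq o_y13
  · interval_cases i
    · simpa using hn [oy2] [] (by simp)
    · simpa using hn [oy2] [oy1] (by simp)
    · simpa [pow_succ] using hn [oy2] [oy1, oy1] (by simp)
  · simpa [pow_succ, mul_assoc] using heq o_yx
  · simpa using heq o_k1t
  · simpa using heq o_k2t
  · simpa using heq o_k3t
  · simpa using heq o_ky1
  · simpa [mul_assoc] using heq o_ky2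
  · have : ev α oy2 * (ev α ok3 * ev α oy1) = ev α oy1 * ev α ok3 := by simpa using heq o_ky3
    rw [← mul_right_inj (ev α oy2), this, ← mul_assoc, ← mul_assoc, ← h12, mul_inv_cancel_right]

theorem rd_Ru : ∃ v w x g : Spor.Ru, RD v w x g := by
  obtain ⟨v, w, x, g, h⟩ := Wd.rd
  let e : MultC.Ru.PG ≃* Spor.Ru := CfsgLib.Ru.iso.symm
  refine ⟨e v, e w, e x, e g, ?_, ?_, ?_, ?_, ?_, ?_, ?_, ?_, ?_, ?_⟩
  · rw [← map_mul, h.vv, map_one]
  · rw [← map_mul, h.ww, map_one]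
  · rw [← map_mul, h.vw, map_mul]
  · exact e.map_ne_one_iff.2 h.w1
  · exact e.injective.ne h.ne
  · simpa only [map_pow, map_mul, map_inv] using e.map_ne_one_iff.2 h.big
  · rw [← map_pow, h.x13, map_one]
  · exact e.map_ne_one_iff.2 h.x1
  · rw [← map_mul, h.xv, map_mul]
  · rw [← map_mul, h.xw, map_mul]

end CfsgLib.Pariah
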