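import Mathlib
import Cfsg.Agent.Lib.GT.NavRizo

/-!
Fixed points of `7 : 3` and `3 × 3` on an elementary abelian 2-group.
-/

set_option autoImplicit false

namespace CfsgLib.Pariah.On

open Subgroup CfsgLib.PF

variable {W : Type*} [CommGroup W] [Finite W]

/-- the number of fixed points -/
noncomputable def fc (g : MulAut W) : ℕ := Nat.card {w // g w = w}

omit [Finite W] in
theorem fc_conj (k g : MulAut W) : fc (k * g * k⁻¹) = fc g :=
  (Nat.card_congr (k.toEquiv.subtypeEquiv fun w => by simp)).symm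

omit [Finite W] in
theorem card_fix {L : Type*} [Group L] (φ : L →* MulAut W) {A : Subgroup L} {g : MulAut W}
    (h : ∀ w, (∀ a ∈ A, φ a w = w) ↔ g w = w) : Nat.card (actFix φ A) = fc g :=
  Nat.card_congr (Equiv.subtypeEquivRight h)

omit [Finite W] in
theorem fix_zpow {g k : MulAut W} (h : k ∈ zpowers g) {w : W} (hw : g w = w) : k w = w :=
  (zpowers_le.2 hw : zpowers g ≤ MulAction.stabilizer (MulAut W) w) h

theorem cube (h2 : IsPGroup 2 W) {X Y : MulAut W} (hX : X ^ 7 = 1) (hf : ∀ w, X w = w → w = 1) (hY : Y ^ 3 = 1)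
    (hYX : Y * X * Y⁻¹ = X ^ 2) : Nat.card W = fc Y ^ 3 := by
  classical
  by_cases X1 : X = 1
  · have : Unique W := ⟨⟨1⟩, fun w => hf w (by simp [X1])⟩
    have : Unique {w // Y w = w} := ⟨⟨1, map_one Y⟩, fun w => Subsingleton.elim _ _⟩
    simp [fc]
  have : Fact (Nat.Prime 7) := ⟨by norm_num⟩
  have := Fact.mk Nat.prime_two
  have := Fact.mk Nat.prime_three
  have oX : orderOf X = 7 := orderOf_eq_prime hX X1
  have hc : ∀ j i : ℕ, Y ^ j * X ^ i * (Y ^ j)⁻¹ = X ^ (2 ^ j * i) := fun j i => by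
    rw [← conj_pow, pow_mul]
    congr 1
    induction j with
    | zero => simp
    | succ j ih =>
      calc Y ^ (j + 1) * X * (Y ^ (j + 1))⁻¹ = Y ^ j * (Y * X * Y⁻¹) * (Y ^ j)⁻¹ := by rw [pow_succ]; group
        _ = _ := by rw [hYX, ← conj_pow, ih, ← pow_mul, pow_succ]
  have fp : ∀ j < 3, j ≠ 0 → ∀ i < 7, Y ^ j * X ^ i = X ^ i * Y ^ j → i = 0 := fun j hj j0 i hi e => by
    have h1 := hc j i
    rw [e, mul_inv_cancel_right, pow_eq_pow_iff_modEq, oX] at h1
    exact (by decide : ∀ j < 3, j ≠ 0 → ∀ i < 7, i ≡ 2 ^ j * i [MOD 7] → i = 0) j hj j0 i hi h1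
  have oY : orderOf Y = 3 := orderOf_eq_prime hY fun e =>
    absurd (fp 1 (by norm_num) (by norm_num) 1 (by norm_num) (by simp [e])) one_ne_zero
  set U := zpowers X with hU
  set E := zpowers Y with hE
  have cU : Nat.card U = 7 := by rw [hU, Nat.card_zpowers, oX]
  have cE : Nat.card E = 3 := by rw [hE, Nat.card_zpowers, oY]
  have memU : ∀ g ∈ U, ∃ i < 7, g = X ^ i := fun g hg => by
    obtain ⟨i, hi, e⟩ := Finset.mem_image.1 (mem_zpowers_iff_mem_range_orderOf.1 hg)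
    exact ⟨i, oX ▸ Finset.mem_range.1 hi, e.symm⟩
  have memE : ∀ g ∈ E, ∃ i < 3, g = Y ^ i := fun g hg => by
    obtain ⟨i, hi, e⟩ := Finset.mem_image.1 (mem_zpowers_iff_mem_range_orderOf.1 hg)
    exact ⟨i, oY ▸ Finset.mem_range.1 hi, e.symm⟩
  have hUn : E ≤ normalizer (U : Set (MulAut W)) := fun g hg => Tech.mem_normalizer_of_forall fun x hx => by
    obtain ⟨j, -, rfl⟩ := memE g hg
    obtain ⟨i, -, rfl⟩ := memU x hx
    rw [hc]
    exact pow_mem (mem_zpowers X) _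
  have hUE : U ⊓ E = ⊥ := disjoint_iff.1 (disjoint_of_coprime_natCard (by rw [cU, cE]; norm_num))
  have hN : (U.subgroupOf (U ⊔ E)).Normal := normal_subgroupOf_of_le_normalizer (sup_le le_normalizer hUn)
  have hbot : U.subgroupOf (U ⊔ E) ⊓ E.subgroupOf (U ⊔ E) = ⊥ := by
    rw [eq_bot_iff]; intro x hx; exact Subtype.ext (mem_bot.mp (hUE ▸ hx))
  have htop : U.subgroupOf (U ⊔ E) ⊔ E.subgroupOf (U ⊔ E) = ⊤ := by
    rw [← subgroupOf_sup le_sup_left le_sup_right, subgroupOf_self]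
  have cE' : Nat.card (E.subgroupOf (U ⊔ E)) = 3 := by
    rw [Nat.card_congr (subgroupOfEquivOfLe le_sup_right).toEquiv, cE]
  have cL : Nat.card ↥(U ⊔ E) = 21 := by
    rw [← (isComplement'_of_disjoint_and_mul_eq_univ (disjoint_iff.mpr hbot)
      (by rw [← normal_mul, htop]; rfl)).card_mul_card, cE',
      Nat.card_congr (subgroupOfEquivOfLe le_sup_left).toEquiv, cU]
  obtain ⟨n, hn⟩ := IsPGroup.iff_card.1 h2
  have hw := wielandt_frobenius_action (U.subgroupOf (U ⊔ E)) (E.subgroupOf (U ⊔ E)) hbot htop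
    (fun e he e1 x hx h => Subtype.ext (by
      obtain ⟨j, hj, ej⟩ := memE e he
      obtain ⟨i, hi, ei⟩ := memU x hx
      have h' := congrArg Subtype.val h
      simp only [coe_mul, ej, ei] at h'
      rw [ei, fp j hj (fun j0 => e1 (Subtype.ext (by rw [ej, j0]; rfl))) i hi h']
      rfl)) (U ⊔ E).subtype inferInstance (by rw [hn, cL]; exact Nat.Coprime.pow_left _ (by norm_num))
  have b0 : ∀ A : Subgroup ↥(U ⊔ E), U.subgroupOf (U ⊔ E) ≤ A → actFix (U ⊔ E).subtype A = ⊥ := fun A hA =>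
    eq_bot_iff.2 fun w h => hf w (h ⟨X, mem_sup_left (mem_zpowers X)⟩ (hA (mem_zpowers X)))
  rw [b0 _ le_top, b0 _ le_rfl, card_bot, one_pow, one_mul, mul_one, cE', card_fix (g := Y) (A := E.subgroupOf (U ⊔ E))
    (U ⊔ E).subtype fun w => ⟨fun h => h ⟨Y, mem_sup_right (mem_zpowers Y)⟩ (mem_zpowers Y), fun h a ha => fix_zpow ha h⟩] at hw
  exact hw

theorem nine_cls : ∀ x : Multiplicative (ZMod 3 × ZMod 3), x ≠ 1 → ∃ y, (x = y ∨ x = y⁻¹) ∧ (y = .ofAdd (1, 0) ∨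
    y = .ofAdd (0, 1) ∨ y = .ofAdd (1, 1) ∨ y = .ofAdd (1, 2)) := by decide +kernel

theorem nine_exp : ∀ x : Multiplicative (ZMod 3 × ZMod 3), x ^ 3 = 1 := by decide +kernel

theorem nine (h2 : IsPGroup 2 W) {X Y Z K₁ K₂ K₃ : MulAut W} (hX : X ^ 7 = 1) (hf : ∀ w, X w = w → w = 1)
    (hY : Y ^ 3 = 1) (hYX : Y * X * Y⁻¹ = X ^ 2) (hYZ : Commute Y Z) (h1 : K₁ * Y * K₁⁻¹ = Z)
    (h3 : K₂ * Y * K₂⁻¹ = Y * Z) (h4 : K₃ * Y * K₃⁻¹ = Y * Z⁻¹) : ∃ k, Nat.card W = k ^ 9 := by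
  have := Fact.mk Nat.prime_two
  have := Fact.mk Nat.prime_three
  have hZ : Z ^ 3 = 1 := by rw [← h1, conj_pow, hY]; simp
  let φ : Multiplicative (ZMod 3 × ZMod 3) →* MulAut W := MonoidHom.mk' (fun x => Y ^ x.toAdd.1.val * Z ^ x.toAdd.2.val)
    fun a b => by
      simp only [toAdd_mul, Prod.fst_add, Prod.snd_add, ZMod.val_add, ← pow_eq_pow_mod _ hY, ← pow_eq_pow_mod _ hZ,
        pow_add, mul_assoc]
      rw [← mul_assoc (Z ^ _), ← (hYZ.pow_pow _ _).eq, mul_assoc]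
  obtain ⟨n, hn⟩ := IsPGroup.iff_card.1 h2
  have c9 : Nat.card (Multiplicative (ZMod 3 × ZMod 3)) = 9 := by simp
  have h5 := GT.navarro_rizo_action (p := 3) (IsPGroup.of_card (n := 2) c9) φ inferInstance
    (by rw [hn, c9]; exact Nat.Coprime.pow_left _ (by norm_num))
  have h6 : ∀ x, Nat.card (actFix φ (zpowers x)) = fc (φ x) := fun x => card_fix _ fun w =>
    ⟨fun h => h x (mem_zpowers x), fun h a ha => fix_zpow (φ.map_zpowers x ▸ mem_map_of_mem φ ha) h⟩
  have h7 : ∀ x, fc (φ x⁻¹) = fc (φ x) := fun x => Nat.card_congr (Equiv.subtypeEquivRight fun w => by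
    rw [map_inv, ← (φ x).apply_eq_iff_eq, MulAut.apply_inv_self, eq_comm])
  have h8 : ∀ x, x ≠ 1 → fc (φ x) = fc Y := fun x hx => by
    obtain ⟨y, k1, k2⟩ := nine_cls x hx
    rw [show fc (φ x) = fc (φ y) by rcases k1 with rfl | rfl; exacts [rfl, h7 y]]
    rcases k2 with rfl | rfl | rfl | rfl
    · exact congrArg fc (mul_one _)
    · exact (congrArg fc ((one_mul _).trans h1.symm)).trans (fc_conj _ _)
    · exact (congrArg fc h3.symm).trans (fc_conj _ _)
    · refine (congrArg fc (h4.trans ?_).symm).trans (fc_conj _ _)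
      rw [inv_eq_of_mul_eq_one_right ((pow_succ' Z 2).symm.trans hZ)]; rfl
  have h9 : fc (1 : MulAut W) = Nat.card W := Nat.card_congr (Equiv.subtypeUnivEquiv fun _ => rfl)
  simp only [h6, nine_exp, map_one, h9, Finset.prod_const, c9] at h5
  rw [← Finset.mul_prod_erase _ _ (Finset.mem_univ 1), Finset.prod_congr rfl fun x hx => by
    rw [h8 x (Finset.ne_of_mem_erase hx)], map_one, h9, cube h2 hX hf hY hYX, Finset.prod_const,
    Finset.card_erase_of_mem (Finset.mem_univ _), Finset.card_univ, ← Nat.card_eq_fintype_card, c9] at h5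
  refine ⟨Nat.card (actFix φ ⊤), ?_⟩
  have h11 : 0 < fc Y := by
    have : Nonempty {w // Y w = w} := ⟨⟨1, map_one Y⟩⟩
    exact Nat.card_pos
  rw [cube h2 hX hf hY hYX]
  generalize Nat.card (actFix φ ⊤) = k at *
  generalize fc Y = m at *
  refine Nat.pow_left_injective (n := 2) (by norm_num) (Nat.eq_of_mul_eq_mul_left (pow_pos h11 27) ?_)
  simp only [← pow_mul, ← pow_add] at h5 ⊢
  exact h5

end CfsgLib.Pariah.On
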